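import Mathlib

/-!
The map of the remaining points induced by the involution of a Zassenhaus group with kernel of type A is
determined by the field automorphism and one constant, and these are determined too.
-/

set_option autoImplicit false
set_option linter.unusedSectionVars false

namespace CfsgLib.SzUnique

variable {F : Type*} [Field F]

/-- The product of type A. -/
def pm (φ : F ≃+* F) (p q : F × F) : F × F := (p.1 + q.1, p.2 + q.2 + φ p.1 * q.1)

/-- The inverse of type A. -/
def pv (φ : F ≃+* F) (p : F × F) : F × F := (p.1, p.2 + φ p.1 * p.1)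

/-- The action of a scalar. -/
def sc (φ : F ≃+* F) (l : F) (p : F × F) : F × F := (l * p.1, l * φ l * p.2)

/-- The properties of the map induced by the involution. -/
structure Sys (φ : F ≃+* F) (b₀ : F) (σ : F × F → F × F) : Prop where
  inj : Function.Injective fun x : F => x * φ x
  no_cube : ∀ x : F, x * x + x + 1 ≠ 0
  ne : ∀ p, p ≠ 0 → σ p ≠ 0
  inv : ∀ p, p ≠ 0 → σ (σ p) = p
  scale : ∀ l, l ≠ 0 → ∀ p, p ≠ 0 → σ (sc φ l p) = sc φ l⁻¹ (σ p)
  fixed : σ (1, b₀) = (1, b₀)
  centre : σ (0, 1) = pv φ (1, b₀)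
  rel : ∀ v, v ≠ 0 → pm φ (1, b₀) v ≠ 0 →
    σ (pm φ (1, b₀) v) = pm φ (1, b₀) (σ (pm φ (0, 1) (σ v)))
  braid : ∀ p, p ≠ 0 → ∃ h : F, σ (pv φ (σ p)) = sc φ h (pv φ (σ (pv φ p))) ∧
    σ (pv φ (σ (pv φ p))) = sc φ h (pv φ (σ p))

variable [CharP F 2] {φ : F ≃+* F} {b₀ : F} {σ : F × F → F × F}

theorem add_self (x : F) : x + x = 0 := CharTwo.add_self_eq_zero x

theorem eq_of_add {x y : F} (h : x + y = 0) : x = y := CharTwo.add_eq_zero.1 h

theorem sc_one (p : F × F) : sc φ 1 p = p := by simp [sc]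

theorem sc_sc (l k : F) (p : F × F) : sc φ l (sc φ k p) = sc φ (l * k) p := by
  ext <;> simp [sc, map_mul] <;> ring

theorem fst_ne {a b : F} (h : a ≠ 0) : ((a, b) : F × F) ≠ 0 := fun e => h (congrArg Prod.fst e)

theorem snd_ne {a b : F} (h : b ≠ 0) : ((a, b) : F × F) ≠ 0 := fun e => h (congrArg Prod.snd e)

section Root

variable [Finite F] (H : Sys φ b₀ σ)
include H

theorem Sys.root_exists (x : F) : ∃ y, y * φ y = x :=
  (Finite.injective_iff_surjective.1 H.inj) x

/-- The root. -/
noncomputable def Sys.root (x : F) : F := (H.root_exists x).choose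

theorem Sys.root_spec (x : F) : H.root x * φ (H.root x) = x := (H.root_exists x).choose_spec

theorem Sys.root_eq {x y : F} (h : y * φ y = x) : H.root x = y :=
  H.inj (show H.root x * φ (H.root x) = y * φ y by rw [H.root_spec, h])

theorem Sys.root_ne {x : F} (h : x ≠ 0) : H.root x ≠ 0 := fun e => h (by
  rw [← H.root_spec x, e, zero_mul])

theorem Sys.root_one : H.root 1 = 1 := H.root_eq (by simp)

theorem Sys.root_mul (x y : F) : H.root (x * y) = H.root x * H.root y := H.root_eq (by
  rw [map_mul]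
  linear_combination φ (H.root y) * H.root y * H.root_spec x + x * H.root_spec y)

/-- The value at a point over the fixed one. -/
def Sys.S (_ : Sys φ b₀ σ) (x : F) : F × F := σ (1, b₀ + x)

theorem Sys.S_zero : H.S 0 = (1, b₀) := by rw [Sys.S, add_zero, H.fixed]

theorem Sys.S_one : H.S 1 = (0, 1) := by
  have h : pv φ (1, b₀) = (1, b₀ + 1) := by simp [pv]
  rw [Sys.S, ← h, ← H.centre, H.inv _ (snd_ne one_ne_zero)]

theorem Sys.S_step {x : F} (hx : x ≠ 0) :
    H.S x = pm φ (1, b₀) (sc φ (H.root x) (H.S (x + 1))) := by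
  set A := H.root x with hA
  have hA0 : A ≠ 0 := H.root_ne hx
  have hv : ((0 : F), x) = sc φ A (0, 1) := by
    simp [sc, hA, H.root_spec]
  have hs : σ ((0 : F), x) = sc φ A⁻¹ (1, b₀ + 1) := by
    rw [hv, H.scale _ hA0 _ (snd_ne one_ne_zero), H.centre]
    simp [pv]
  have hu : pm φ (1, b₀) (0, x) = (1, b₀ + x) := by simp [pm]
  have hz : pm φ (0, 1) (σ ((0 : F), x)) = sc φ A⁻¹ (1, b₀ + (x + 1)) := by
    rw [hs]
    ext
    · simp [pm, sc]
    · simp only [pm, sc, map_inv₀, map_zero, zero_mul, add_zero]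
      have h : A⁻¹ * (φ A)⁻¹ * x = 1 := by
        rw [← mul_inv, hA, H.root_spec, inv_mul_cancel₀ hx]
      linear_combination (-1 : F) * h
  have := H.rel _ (snd_ne hx) (by rw [hu]; exact fst_ne one_ne_zero)
  rw [hu, hz, H.scale _ (inv_ne_zero hA0) _ (fst_ne one_ne_zero), inv_inv] at this
  exact this

theorem Sys.two_eqs {x : F} (hx : x ≠ 0) :
    (H.S x).1 = 1 + H.root x * (H.S (x + 1)).1 ∧
      (H.S x).2 = b₀ + x * (H.S (x + 1)).2 + H.root x * (H.S (x + 1)).1 := by
  rw [H.S_step hx]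
  simp [pm, sc, H.root_spec]

theorem Sys.root_mul_ne {x : F} : H.root x * H.root (x + 1) ≠ 1 := by
  intro h
  have := H.root_spec (x * (x + 1))
  rw [H.root_mul, h, map_one, mul_one] at this
  refine H.no_cube x ?_
  linear_combination (-1 : F) * this + add_self (1 : F)

theorem Sys.den_ne {x : F} : 1 + H.root x * H.root (x + 1) ≠ 0 :=
  fun h => H.root_mul_ne (eq_of_add h).symm

theorem Sys.cross {x : F} (hx : x ≠ 0) (hx1 : x ≠ 1) :
    (1 + H.root x * H.root (x + 1)) * (H.S x).1 = 1 + H.root x ∧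
      (1 + x * (x + 1)) * (H.S x).2 =
        b₀ + x * b₀ + x * H.root (x + 1) * (H.S x).1 + H.root x * (H.S (x + 1)).1 := by
  obtain ⟨h1, h2⟩ := H.two_eqs hx
  have hx1' : x + 1 ≠ 0 := fun h => hx1 (eq_of_add h)
  obtain ⟨h3, h4⟩ := H.two_eqs hx1'
  have e11 : x + 1 + 1 = x := by rw [add_assoc, add_self, add_zero]
  rw [e11] at h3 h4
  constructor
  · linear_combination h1 + H.root x * h3 +
      add_self (H.root x * H.root (x + 1) * (H.S x).1)
  · linear_combination h2 + x * h4 + add_self (x * (x + 1) * (H.S x).2)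

theorem Sys.first_ne {x : F} (hx1 : x ≠ 1) : (H.S x).1 ≠ 0 := by
  intro h
  by_cases hx : x = 0
  · rw [hx, H.S_zero] at h; exact one_ne_zero h
  have := (H.cross hx hx1).1
  rw [h, mul_zero] at this
  have h1 : H.root x = 1 := (eq_of_add this.symm).symm
  refine hx1 ?_
  rw [← H.root_spec x, h1, map_one, one_mul]

/-- The map is determined by the automorphism and the constant. -/
theorem Sys.ext_map {σ' : F × F → F × F} (H' : Sys φ b₀ σ') {p : F × F} (hp : p ≠ 0) :
    σ p = σ' p := by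
  have hroot : ∀ x, H'.root x = H.root x := fun x => H'.root_eq (H.root_spec x)
  have hS : ∀ x, H.S x = H'.S x := by
    intro x
    by_cases hx : x = 0
    · rw [hx, H.S_zero, H'.S_zero]
    by_cases hx1 : x = 1
    · rw [hx1, H.S_one, H'.S_one]
    obtain ⟨a1, a2⟩ := H.cross hx hx1
    obtain ⟨b1, b2⟩ := H'.cross hx hx1
    rw [hroot x, hroot (x + 1)] at b1 b2
    have e1 : (H.S x).1 = (H'.S x).1 := mul_left_cancel₀ H.den_ne (a1.trans b1.symm)
    have hx1' : x + 1 ≠ 0 := fun h => hx1 (eq_of_add h)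
    have c1 := (H.two_eqs hx1').1
    have d1 := (H'.two_eqs hx1').1
    rw [add_assoc, add_self, add_zero] at c1 d1
    rw [hroot (x + 1), ← e1, ← c1] at d1
    rw [← e1, d1, ← a2] at b2
    refine Prod.ext e1 (mul_left_cancel₀ ?_ b2.symm)
    intro h
    exact H.no_cube x (by linear_combination h)
  obtain ⟨a, b⟩ := p
  by_cases ha : a = 0
  · subst ha
    have hb : b ≠ 0 := fun h => hp (by rw [h]; rfl)
    have e : ((0 : F), b) = sc φ (H.root b) (0, 1) := by simp [sc, H.root_spec]
    rw [e, H.scale _ (H.root_ne hb) _ (snd_ne one_ne_zero),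
      H'.scale _ (H.root_ne hb) _ (snd_ne one_ne_zero), H.centre, H'.centre]
  · have e : (a, b) = sc φ a (1, b₀ + (b / (a * φ a) + b₀)) := by
      ext
      · simp [sc]
      · have : a * φ a ≠ 0 := mul_ne_zero ha (by simpa using ha)
        simp only [sc]
        rw [add_left_comm, add_self, add_zero, mul_div_cancel₀ _ this]
    rw [e, H.scale _ ha _ (fst_ne one_ne_zero), H'.scale _ ha _ (fst_ne one_ne_zero)]
    exact congrArg _ (hS _)

/-- The image of the parameter. -/
noncomputable def Sys.tau (x : F) : F :=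
  (H.S x).2 / ((H.S x).1 * φ (H.S x).1) + b₀

theorem Sys.first_eq {x : F} (hx1 : x ≠ 1) :
    H.S x = sc φ (H.S x).1 (1, b₀ + H.tau x) := by
  have hs := H.first_ne hx1
  ext
  · simp [sc]
  · simp only [sc, Sys.tau]
    rw [add_left_comm, add_self, add_zero, mul_div_cancel₀]
    exact mul_ne_zero hs (by simpa using hs)

theorem Sys.second_step {x : F} (hx : x ≠ 0) (hx1 : x ≠ 1) :
    σ (pv φ (σ (1, b₀ + x))) =
      sc φ (H.S x).1⁻¹ (H.S (H.tau x + 1)) ∧
      (H.S (H.tau x + 1)).1 = 1 + H.root (H.tau x + 1) * (H.S x).1 := by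
  have hs := H.first_ne hx1
  have hsS : σ (1, b₀ + x) = sc φ (H.S x).1 (1, b₀ + H.tau x) := H.first_eq hx1
  constructor
  · have : pv φ (σ (1, b₀ + x)) = sc φ (H.S x).1 (1, b₀ + (H.tau x + 1)) := by
      rw [hsS]
      ext
      · simp [pv, sc]
      · simp [pv, sc]; ring
    rw [this, H.scale _ hs _ (fst_ne one_ne_zero)]
    rfl
  · have hback : (H.S (H.tau x)) = sc φ (H.S x).1 (1, b₀ + x) := by
      have h := congrArg σ hsS
      rw [H.inv _ (fst_ne one_ne_zero), H.scale _ hs _ (fst_ne one_ne_zero)] at h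
      rw [h, sc_sc, mul_inv_cancel₀ hs, sc_one]
      rfl
    have htau : H.tau x + 1 ≠ 0 := by
      intro h
      have := congrArg Prod.fst hback
      rw [eq_of_add h, H.S_one] at this
      simp [sc] at this
      exact hs this.symm
    have h := (H.two_eqs htau).1
    rw [add_assoc, add_self, add_zero, hback] at h
    simpa [sc] using h

/-- The symmetry under inversion. -/
theorem Sys.symm_eq {x : F} (hx : x ≠ 0) (hx1 : x ≠ 1) :
    (H.S x).2 + (b₀ + 1) * ((H.S x).1 * φ (H.S x).1) =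
      (H.S (x + 1)).2 + (b₀ + 1) * ((H.S (x + 1)).1 * φ (H.S (x + 1)).1) := by
  have hx' : x + 1 ≠ 0 := fun h => hx1 (eq_of_add h)
  have hx1' : x + 1 ≠ 1 := fun h => hx (by simpa using h)
  obtain ⟨a1, a2⟩ := H.second_step hx hx1
  obtain ⟨c1, c2⟩ := H.second_step hx' hx1'
  have hpv : pv φ (1, b₀ + x) = (1, b₀ + (x + 1)) := by simp [pv]; ring
  obtain ⟨h, h1, h2⟩ := H.braid _ (fst_ne (b := b₀ + x) one_ne_zero)
  rw [hpv] at h1 h2
  rw [a1] at h1
  rw [c1] at h2
  have k1 := congrArg Prod.fst h1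
  have k2 := congrArg Prod.fst h2
  simp only [sc, pv] at k1 k2
  change _ = h * (H.S (x + 1)).1 at k1
  change _ = h * (H.S x).1 at k2
  rw [inv_mul_eq_iff_eq_mul₀ (H.first_ne hx1), a2] at k1
  rw [inv_mul_eq_iff_eq_mul₀ (H.first_ne hx1'), c2] at k2
  set B' := H.root (H.tau x + 1)
  set C' := H.root (H.tau (x + 1) + 1)
  have hB : B' * (H.S x).1 = C' * (H.S (x + 1)).1 := by linear_combination k1 - k2
  have h3 : (H.tau x + 1) * ((H.S x).1 * φ (H.S x).1) =
      (H.tau (x + 1) + 1) * ((H.S (x + 1)).1 * φ (H.S (x + 1)).1) := by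
    rw [← H.root_spec (H.tau x + 1), ← H.root_spec (H.tau (x + 1) + 1)]
    have := congrArg (fun z => z * φ z) hB
    simp only [map_mul] at this
    linear_combination this
  have e1 := congrArg Prod.snd (H.first_eq hx1)
  have e2 := congrArg Prod.snd (H.first_eq hx1')
  simp only [sc] at e1 e2
  linear_combination (norm := (ring_nf; reduce_mod_char!)) h3 + e1 - e2

/-- The relation between the two roots. -/
theorem Sys.key {x : F} (hx : x ≠ 0) (hx1 : x ≠ 1) :
    (1 + b₀) * ((1 + H.root x * H.root (x + 1)) *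
        (H.root (x + 1) * x * φ (H.root x) + (x + 1) * (x + 1) + H.root (x + 1))) +
      b₀ * ((H.root (x + 1) + φ (H.root x) * (x + 1)) *
        (x * H.root x + (x + 1) * H.root (x + 1) + 1)) = 0 := by
  have hx' : x + 1 ≠ 0 := fun h => hx1 (eq_of_add h)
  have hx1' : x + 1 ≠ 1 := fun h => hx (by simpa using h)
  obtain ⟨p1, p2⟩ := H.cross hx hx1
  obtain ⟨q1, q2⟩ := H.cross hx' hx1'
  rw [add_assoc x 1 1, add_self, add_zero] at q1 q2
  have hk := H.symm_eq hx hx1
  have r1 : (1 + φ (H.root x) * φ (H.root (x + 1))) * φ (H.S x).1 = 1 + φ (H.root x) := by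
    have := congrArg φ p1; simpa [map_mul, map_add] using this
  have r2 : (1 + φ (H.root (x + 1)) * φ (H.root x)) * φ (H.S (x + 1)).1 =
      1 + φ (H.root (x + 1)) := by
    have := congrArg φ q1; simpa [map_mul, map_add] using this
  have hc := H.root_spec (x + 1)
  have hAa := H.root_spec x
  have two : (2 : F) = 0 := CharTwo.two_eq_zero
  set A := H.root x
  set a := φ A
  set B := H.root (x + 1)
  set c := φ B
  set s := (H.S x).1
  set s' := (H.S (x + 1)).1
  set p := φ s
  set p' := φ s'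
  set R := (H.S x).2
  set R' := (H.S (x + 1)).2
  have f1 : (B + a * (x + 1)) * p = (1 + a) * B := by linear_combination B * r1 - a * p * hc
  have f2 : (B + a * (x + 1)) * p' = B + (x + 1) := by
    linear_combination B * r2 + (1 - a * p') * hc
  have e : b₀ + (x + 1) * B * s + x * A * s' =
      (1 + x * (x + 1)) * (b₀ + 1) * (s * p + s' * p') := by
    linear_combination (norm := (ring_nf; reduce_mod_char!)) (1 + x * (x + 1)) * hk - p2 + q2
  have hxA : x = A * a := hAa.symm
  clear_value A a B c s s' p p' R R'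
  subst hxA
  linear_combination (norm := (ring_nf; reduce_mod_char!)) (1 + A * B) * (B + a * (A * a + 1)) * e +
      (-(A * a + 1) * B * (B + a * (A * a + 1))) * p1 +
      (-(A * a) * A * (B + a * (A * a + 1))) * q1 +
      (1 + A * a * (A * a + 1)) * (b₀ + 1) * (B + a * (A * a + 1)) * p * p1 +
      (1 + A * a * (A * a + 1)) * (b₀ + 1) * (B + a * (A * a + 1)) * p' * q1 +
      (1 + A * a * (A * a + 1)) * (b₀ + 1) * (1 + A) * f1 +
      (1 + A * a * (A * a + 1)) * (b₀ + 1) * (1 + B) * f2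

end Root

end CfsgLib.SzUnique
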