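import Cfsg.Agent.Recog.SuzukiTypeA
import Cfsg.Agent.SzUnique.Field

/-!
Coordinates on a Suzuki two-group of type A in which the automorphism is a scalar.
-/

set_option autoImplicit false
set_option linter.unusedSectionVars false
set_option linter.style.haveILetI false
set_option linter.unnecessarySeqFocus false
set_option linter.unusedVariables false

namespace CfsgLib.SzUnique

open Matrix CfsgLib.Recog CfsgLib.Recog.SuzukiTypeA
open scoped MatrixGroups commutatorElement

theorem symm_ofBijective_apply {M P : Type*} [Group M] [Group P] {f : M →* P}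
    (hf : Function.Bijective f) (x : M) : (MulEquiv.ofBijective f hf).symm (f x) = x :=
  (MulEquiv.ofBijective f hf).symm_apply_apply x

/-- Central extensions of exponent-two groups with the same squares are isomorphic. -/
theorem equivOfSquares_compat {P A V W : Type*} [Group P] [Group A] [Finite P] [Finite A] [Group V] [Group W]
    (πP : P →* V) (πA : A →* V) (ιP : W →* P) (ιA : W →* A)
    (hsP : Function.Surjective πP) (hsA : Function.Surjective πA)
    (hiP : Function.Injective ιP) (hiA : Function.Injective ιA)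
    (hkP : ∀ p, πP p = 1 ↔ ∃ w, ιP w = p) (hkA : ∀ a, πA a = 1 ↔ ∃ w, ιA w = a)
    (hsq : ∀ p a, πP p = πA a → ∃ w, p * p = ιP w ∧ a * a = ιA w) :
    ∃ Θ : P ≃* A, (∀ p, πA (Θ p) = πP p) ∧ ∀ w, Θ (ιP w) = ιA w := by
  classical
  let Δ : Subgroup (P × A) := (ιP.prod ιA).range
  let N : Subgroup (P × A) :=
    (πP.comp (MonoidHom.fst P A)).eqLocus (πA.comp (MonoidHom.snd P A))
  have hN : ∀ {d : P × A}, d ∈ N ↔ πP d.1 = πA d.2 := fun {d} => Iff.rfl
  have hΔN : Δ ≤ N := by
    rintro _ ⟨w, rfl⟩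
    exact hN.2 (((hkP _).2 ⟨w, rfl⟩).trans ((hkA _).2 ⟨w, rfl⟩).symm)
  have hsqΔ : ∀ d ∈ N, d * d ∈ Δ := fun d hd => by
    obtain ⟨w, h1, h2⟩ := hsq d.1 d.2 hd
    exact ⟨w, (Prod.ext h1 h2 : d * d = (ιP w, ιA w)).symm⟩
  -- a subgroup of `N` over `Δ` maximal among those meeting the kernel in `Δ`
  let good : Set (Subgroup (P × A)) :=
    {M | Δ ≤ M ∧ M ≤ N ∧ ∀ d ∈ M, πP d.1 = 1 → d ∈ Δ}
  haveI : Finite (Subgroup (P × A)) := Finite.of_injective _ SetLike.coe_injective
  obtain ⟨M, hM, hmax⟩ := (Set.toFinite good).exists_maximal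
    ⟨Δ, le_rfl, hΔN, fun d hd _ => hd⟩
  obtain ⟨hΔM, hMN, hMK⟩ := hM
  have hsqM : ∀ d ∈ N, d * d ∈ M := fun d hd => hΔM (hsqΔ d hd)
  have hnormal : ∀ d ∈ N, ∀ m ∈ M, d * m * d⁻¹ ∈ M := fun d hd m hm => by
    have h := mul_mem (mul_mem (hsqM _ (mul_mem hd (hMN hm))) (inv_mem hm)) (inv_mem (hsqM d hd))
    have : d * m * (d * m) * m⁻¹ * (d * d)⁻¹ = d * m * d⁻¹ := by group
    rwa [this] at h
  have hcover : ∀ d ∈ N, ∃ k, πP k.1 = 1 ∧ πA k.2 = 1 ∧ d * k ∈ M := by
    intro d hd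
    by_contra hno
    push Not at hno
    let M' : Subgroup (P × A) :=
      { carrier := {x | x ∈ M ∨ d⁻¹ * x ∈ M}
        one_mem' := Or.inl (one_mem M)
        mul_mem' := fun {x y} hx hy => by
          simp only [Set.mem_ofPred_eq] at hx hy ⊢
          rcases hx with hx | hx <;> rcases hy with hy | hy
          · exact Or.inl (mul_mem hx hy)
          · right
            have h := mul_mem (hnormal d⁻¹ (inv_mem hd) x hx) hy
            have : d⁻¹ * x * d⁻¹⁻¹ * (d⁻¹ * y) = d⁻¹ * (x * y) := by group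
            rwa [this] at h
          · exact Or.inr (by rw [← mul_assoc]; exact mul_mem hx hy)
          · left
            have h := mul_mem (mul_mem (hsqM d hd) (hnormal d⁻¹ (inv_mem hd) _ hx)) hy
            have : d * d * (d⁻¹ * (d⁻¹ * x) * d⁻¹⁻¹) * (d⁻¹ * y) = x * y := by group
            rwa [this] at h
        inv_mem' := fun {x} hx => by
          simp only [Set.mem_ofPred_eq] at hx ⊢
          rcases hx with hx | hx
          · exact Or.inl (inv_mem hx)
          · right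
            have h := mul_mem (hnormal d⁻¹ (inv_mem hd) _ (inv_mem hx)) (inv_mem (hsqM d hd))
            have : d⁻¹ * (d⁻¹ * x)⁻¹ * d⁻¹⁻¹ * (d * d)⁻¹ = d⁻¹ * x⁻¹ := by group
            rwa [this] at h }
    have hgood : M' ∈ good := by
      refine ⟨fun x hx => Or.inl (hΔM hx), fun x hx => ?_, fun x hx h1 => ?_⟩
      · rcases hx with hx | hx
        · exact hMN hx
        · simpa using mul_mem hd (hMN hx)
      · rcases hx with hx | hx
        · exact hMK x hx h1
        · exfalso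
          have hxN : x ∈ N := by simpa using mul_mem hd (hMN hx)
          have h2 : πA x.2 = 1 := (hN.1 hxN).symm.trans h1
          refine hno x⁻¹ ?_ ?_ ?_
          · rw [Prod.fst_inv, map_inv, h1, inv_one]
          · rw [Prod.snd_inv, map_inv, h2, inv_one]
          · have := inv_mem (hnormal d hd _ hx)
            have e : (d * (d⁻¹ * x) * d⁻¹)⁻¹ = d * x⁻¹ := by group
            rwa [e] at this
    have hle : M' ≤ M := hmax hgood fun x hx => Or.inl hx
    refine hno 1 (map_one _) (map_one _) ?_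
    rw [mul_one]
    exact hle (Or.inr (by rw [inv_mul_cancel]; exact one_mem M))
  have hker : ∀ x ∈ M, πP x.1 = 1 → ∃ w, ιP w = x.1 ∧ ιA w = x.2 := fun x hx h1 => by
    obtain ⟨w, rfl⟩ := hMK x hx h1
    exact ⟨w, rfl, rfl⟩
  let fP : M →* P := (MonoidHom.fst P A).comp M.subtype
  let fA : M →* A := (MonoidHom.snd P A).comp M.subtype
  have hbP : Function.Bijective fP := by
    refine ⟨(injective_iff_map_eq_one fP).2 fun x (hx : x.1.1 = 1) => ?_, fun p => ?_⟩
    · obtain ⟨w, h1, h2⟩ := hker x.1 x.2 (by rw [hx, map_one])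
      rw [hx, ← map_one ιP] at h1
      rw [hiP h1, map_one] at h2
      exact Subtype.ext (Prod.ext hx h2.symm)
    · obtain ⟨a, ha⟩ := hsA (πP p)
      obtain ⟨k, hk1, -, hk⟩ := hcover (p, a) (hN.2 ha.symm)
      obtain ⟨w, hw⟩ := (hkP k.1).1 hk1
      exact ⟨⟨(p, a) * k * (ιP w, ιA w)⁻¹, mul_mem hk (inv_mem (hΔM ⟨w, rfl⟩))⟩,
        show p * k.1 * (ιP w)⁻¹ = p by rw [hw, mul_inv_cancel_right]⟩
  have hbA : Function.Bijective fA := by
    refine ⟨(injective_iff_map_eq_one fA).2 fun x (hx : x.1.2 = 1) => ?_, fun a => ?_⟩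
    · obtain ⟨w, h1, h2⟩ := hker x.1 x.2 (by rw [hN.1 (hMN x.2), hx, map_one])
      rw [hx, ← map_one ιA] at h2
      rw [hiA h2, map_one] at h1
      exact Subtype.ext (Prod.ext h1.symm hx)
    · obtain ⟨p, hp⟩ := hsP (πA a)
      obtain ⟨k, -, hk2, hk⟩ := hcover (p, a) (hN.2 hp)
      obtain ⟨w, hw⟩ := (hkA k.2).1 hk2
      exact ⟨⟨(p, a) * k * (ιP w, ιA w)⁻¹, mul_mem hk (inv_mem (hΔM ⟨w, rfl⟩))⟩,
        show a * k.2 * (ιA w)⁻¹ = a by rw [hw, mul_inv_cancel_right]⟩
  refine ⟨(MulEquiv.ofBijective fP hbP).symm.trans (MulEquiv.ofBijective fA hbA), fun p => ?_,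
    fun w => ?_⟩
  · obtain ⟨x, rfl⟩ := hbP.2 p
    show πA (fA ((MulEquiv.ofBijective fP hbP).symm (fP x))) = πP (fP x)
    rw [symm_ofBijective_apply hbP x]
    exact (hN.1 (hMN x.2)).symm
  · have hx : (ιP w, ιA w) ∈ M := hΔM ⟨w, rfl⟩
    show fA ((MulEquiv.ofBijective fP hbP).symm (fP ⟨_, hx⟩)) = ιA w
    rw [symm_ofBijective_apply hbP ⟨_, hx⟩]
    rfl

/-- Coordinates of type A with the automorphism acting as a scalar. -/
structure Coord {P : Type*} [Group P] (α : MulAut P) (F : Type*) [Field F] (φ : F ≃+* F) where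
  /-- The coordinates. -/
  Φ : P ≃ F × F
  /-- The scalar. -/
  ν : F
  mul : ∀ p q, Φ (p * q) = pm φ (Φ p) (Φ q)
  equivariant : ∀ p, Φ (α p) = sc φ ν (Φ p)
  gen : ∀ x : F, x ≠ 0 → ∃ i : ℕ, ν ^ i = x

theorem exists_coord {P : Type*} [Group P] [Finite P] (hP : IsPGroup 2 P) {α : MulAut P}
    (hα : SuzukiTwo.Trans α) (hne : ∃ x y : P, x * y ≠ y * x)
    (hcard : Nat.card P = Nat.card (Subgroup.center P) ^ 2) {n : ℕ} (hn : α ^ n = 1) (hodd : Odd n) :
    ∃ (F : Type) (_ : Field F) (_ : Fintype F) (_ : CharP F 2) (φ : F ≃+* F),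
      Fintype.card F = Nat.card (Subgroup.center P) ∧ (∃ x, φ x ≠ x) ∧
      Function.Injective (fun x : F => x * φ x) ∧ Nonempty (Coord α F φ) := by
  classical
  haveI : Fact (Nat.Prime 2) := ⟨Nat.prime_two⟩
  set Z := Subgroup.center P with hZdef
  have hZ : ∀ {x : P}, x ∈ Z ↔ x * x = 1 := fun {x} => SuzukiTwo.center_iff hP hα hne
  have hZc : ∀ {z : P}, z ∈ Z → ∀ g, g * z = z * g := fun hz => Subgroup.mem_center_iff.1 hz
  have hcardQ : Nat.card (P ⧸ Z) = Nat.card Z := by
    have h := Subgroup.card_eq_card_quotient_mul_card_subgroup Z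
    rw [hcard, sq] at h
    exact (Nat.eq_of_mul_eq_mul_right Nat.card_pos h).symm
  haveI : Nontrivial (P ⧸ Z) := by
    obtain ⟨x, y, hxy⟩ := hne
    exact ⟨QuotientGroup.mk x, 1, fun e => hxy (hZc ((QuotientGroup.eq_one_iff x).1 e) y).symm⟩
  have hsqmul : ∀ (x z : P), z ∈ Z → (x * z) * (x * z) = x * x := fun x z hz => by
    rw [mul_assoc, ← mul_assoc z x z, ← hZc hz x, mul_assoc x z z, hZ.1 hz, mul_one]
  have hlift : ∀ (x y : P), (QuotientGroup.mk x : P ⧸ Z) = QuotientGroup.mk y → x * x = y * y :=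
    fun x y h => by
      conv_rhs => rw [← mul_inv_cancel_left x y]
      exact (hsqmul x _ (QuotientGroup.eq.1 h)).symm
  -- the quotient is elementary abelian and squaring is a bijection
  let S : Set (P ⧸ Z) := {q | q ∈ Subgroup.center (P ⧸ Z) ∧ q * q = 1}
  have hout : ∀ q : P ⧸ Z, QuotientGroup.mk q.out = q := QuotientGroup.out_eq'
  have hsqS : ∀ q ∈ S, q.out * q.out ∈ Z := fun q hq => (QuotientGroup.eq_one_iff _).1 (by
    rw [QuotientGroup.mk_mul, hout]; exact hq.2)
  let f : S → Z := fun q => ⟨q.1.out * q.1.out, hsqS q.1 q.2⟩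
  have hfsurj : Function.Surjective f := by
    intro v
    by_cases hv : v = 1
    · refine ⟨⟨1, one_mem _, one_mul 1⟩, Subtype.ext ?_⟩
      show (1 : P ⧸ Z).out * (1 : P ⧸ Z).out = v
      rw [hlift _ 1 (by rw [hout]; rfl), hv, mul_one, Subgroup.coe_one]
    have hQ : IsPGroup 2 (P ⧸ Z) := hP.to_quotient _
    haveI := hQ.center_nontrivial
    obtain ⟨m, hm⟩ := (hQ.to_subgroup (Subgroup.center (P ⧸ Z))).exists_card_eq
    have h2 : 2 ∣ Nat.card (Subgroup.center (P ⧸ Z)) := by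
      rw [hm]
      refine dvd_pow_self 2 fun h => ?_
      rw [h, pow_zero] at hm
      exact (Finite.one_lt_card (α := Subgroup.center (P ⧸ Z))).ne' hm
    obtain ⟨q, hq⟩ := exists_prime_orderOf_dvd_card' 2 h2
    obtain ⟨hq2, hq1⟩ := orderOf_eq_prime_iff.1 hq
    have hqq : (q : P ⧸ Z) * q = 1 := by rw [← sq, ← Subgroup.coe_pow, hq2, Subgroup.coe_one]
    set x := (q : P ⧸ Z).out with hx
    have hx1 : x * x ≠ 1 := fun e => hq1 (Subtype.ext (by
      rw [← hout q, (QuotientGroup.eq_one_iff _).2 (hZ.2 e), Subgroup.coe_one]))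
    obtain ⟨i, hi⟩ := hα (x * x) v hx1 (hZ.1 (hsqS _ ⟨q.2, hqq⟩))
      (fun e => hv (Subtype.ext e)) (hZ.1 v.2)
    have hmem : (QuotientGroup.mk ((α ^ i) x) : P ⧸ Z) ∈ S := by
      constructor
      · refine Subgroup.mem_center_iff.2 fun g => ?_
        obtain ⟨g, rfl⟩ := QuotientGroup.mk_surjective g
        obtain ⟨g, rfl⟩ := (α ^ i).surjective g
        have hc := Subgroup.mem_center_iff.1 q.2 (QuotientGroup.mk g)
        rw [← hout q, ← QuotientGroup.mk_mul, ← QuotientGroup.mk_mul, QuotientGroup.eq] at hc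
        rw [← QuotientGroup.mk_mul, ← QuotientGroup.mk_mul, ← map_mul, ← map_mul, QuotientGroup.eq,
          ← map_inv, ← map_mul]
        exact SuzukiTwo.map_center _ hc
      · rw [← QuotientGroup.mk_mul, QuotientGroup.eq_one_iff, ← map_mul, hi]
        exact v.2
    refine ⟨⟨_, hmem⟩, Subtype.ext ?_⟩
    show Quotient.out _ * Quotient.out _ = (v : P)
    rw [hlift _ ((α ^ i) x) (hout _), ← map_mul, hi]
  have hSle : Nat.card S ≤ Nat.card (P ⧸ Z) := Nat.card_le_card_of_injective _ Subtype.val_injective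
  have hSge : Nat.card (P ⧸ Z) ≤ Nat.card S := hcardQ ▸ Nat.card_le_card_of_surjective f hfsurj
  have hSall : ∀ q : P ⧸ Z, q ∈ S := fun q => by
    obtain ⟨s, hs⟩ :=
      ((Subtype.val_injective : Function.Injective (Subtype.val : S → P ⧸ Z)).bijective_of_nat_card_le
        hSge).2 q
    exact hs ▸ s.2
  have hQ2 : ∀ q : P ⧸ Z, q * q = 1 := fun q => (hSall q).2
  let sqm : P ⧸ Z → Z := fun q => f ⟨q, hSall q⟩
  have hsqm : Function.Bijective sqm :=
    Function.Surjective.bijective_of_nat_card_le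
      (fun v => by obtain ⟨s, hs⟩ := hfsurj v; exact ⟨s.1, hs⟩) hcardQ.le
  have hsqm_mk : ∀ p : P, (sqm (QuotientGroup.mk p) : P) = p * p := fun p => hlift _ _ (hout _)
  have hsqm1 : sqm 1 = 1 := Subtype.ext (by
    rw [← QuotientGroup.mk_one, hsqm_mk, mul_one, Subgroup.coe_one])
  -- the two field structures
  have hmap : Z.map (α : P →* P) = Z := by
    ext v
    constructor
    · rintro ⟨w, hw, rfl⟩; exact SuzukiTwo.map_center α hw
    · intro hv; exact ⟨α.symm v, SuzukiTwo.map_center α.symm hv, α.apply_symm_apply v⟩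
  let αZ : Z ≃* Z := (α.subgroupMap Z).trans (MulEquiv.subgroupCongr hmap)
  have hαZ : ∀ (i : ℕ) (v : Z), (((αZ : MulAut _) ^ i • v : Z) : P) = (α ^ i) v := by
    intro i
    induction i with
    | zero => intro v; simp
    | succ i ih => intro v; rw [pow_succ', mul_smul, pow_succ', MulAut.mul_apply, ← ih v]; rfl
  let αQ : P ⧸ Z ≃* P ⧸ Z := QuotientGroup.congr Z Z α hmap
  have hαQ : ∀ (i : ℕ) (p : P),
      (αQ : MulAut _) ^ i • (QuotientGroup.mk p : P ⧸ Z) = QuotientGroup.mk ((α ^ i) p) := by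
    intro i
    induction i with
    | zero => intro p; simp
    | succ i ih => intro p; rw [pow_succ', mul_smul, ih, pow_succ', MulAut.mul_apply]; rfl
  have hsqeq : ∀ (i : ℕ) q, sqm ((αQ : MulAut _) ^ i • q) = (αZ : MulAut _) ^ i • sqm q := by
    intro i q
    obtain ⟨p, rfl⟩ := QuotientGroup.mk_surjective q
    exact Subtype.ext (by rw [hαQ, hsqm_mk, hαZ, hsqm_mk, map_mul])
  haveI : Nontrivial Z := hsqm.1.nontrivial
  have htrZ : ∀ u v : Z, u ≠ 1 → v ≠ 1 → ∃ i : ℕ, (αZ : MulAut _) ^ i • u = v := fun u v hu hv => by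
    obtain ⟨i, hi⟩ := hα u v (fun e => hu (Subtype.ext e)) (hZ.1 u.2) (fun e => hv (Subtype.ext e))
      (hZ.1 v.2)
    exact ⟨i, Subtype.ext ((hαZ i u).trans hi)⟩
  obtain ⟨F, _, _, _, e, ω, hadd, -, hω, hgen⟩ :=
    SingerField.exists_field (M := Z) (fun v => Subtype.ext (hZ.1 v.2)) αZ htrZ
  obtain ⟨F', _, _, _, e', μ', hadd', -, hμ', hgen'⟩ :=
    SingerField.exists_field (M := P ⧸ Z) hQ2 αQ fun u v hu hv => by
      obtain ⟨i, hi⟩ := htrZ (sqm u) (sqm v) (fun h => hu (hsqm.1 (h.trans hsqm1.symm)))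
        (fun h => hv (hsqm.1 (h.trans hsqm1.symm)))
      exact ⟨i, hsqm.1 ((hsqeq i u).trans hi)⟩
  have hF : Fintype.card F = Nat.card Z := by rw [← Nat.card_eq_fintype_card, Nat.card_congr e]
  have hF' : Fintype.card F' = Fintype.card F := by
    rw [hF, ← hcardQ, ← Nat.card_eq_fintype_card, Nat.card_congr e']
  let r : F' ≃+* F := FiniteField.ringEquivOfCardEq hF'
  let u : P ⧸ Z ≃ F := e'.trans r.toEquiv
  have hu : ∀ a b, u (a * b) = u a + u b := fun a b => by
    show r (e' (a * b)) = r (e' a) + r (e' b)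
    rw [hadd', map_add]
  set μ := r μ' with hμdef
  have huα : ∀ a, u (αQ a) = μ * u a := fun a => by
    show r (e' (αQ a)) = r μ' * r (e' a)
    rw [hμ', map_mul]
  have hgenμ : ∀ x : F, x ≠ 0 → ∃ i : ℕ, μ ^ i = x := fun x hx => by
    obtain ⟨i, hi⟩ := hgen' (r.symm x) fun h => hx (by rw [← r.apply_symm_apply x, h, map_zero])
    exact ⟨i, by rw [hμdef, ← map_pow, hi, r.apply_symm_apply]⟩
  have he1 : e 1 = 0 := by have := hadd 1 1; rw [mul_one] at this; exact left_eq_add.1 this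
  have hu1 : u 1 = 0 := by have := hu 1 1; rw [mul_one] at this; exact left_eq_add.1 this
  -- the quadratic map
  let q : F → F := fun x => e (sqm (u.symm x))
  have hqmk : ∀ p : P, q (u (QuotientGroup.mk p)) = e (sqm (QuotientGroup.mk p)) := fun p => by
    simp only [q, Equiv.symm_apply_apply]
  have hqμ : ∀ x, q (μ * x) = ω * q x := fun x => by
    obtain ⟨a, rfl⟩ := u.surjective x
    rw [← huα]
    simp only [q, Equiv.symm_apply_apply]
    rw [← hω]
    have := hsqeq 1 a
    simp only [pow_one] at this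
    exact congrArg e this
  have hqinj : Function.Injective q := e.injective.comp (hsqm.1.comp u.symm.injective)
  have hq0 : q 0 = 0 := by
    simp only [q, ← hu1, Equiv.symm_apply_apply, hsqm1, he1]
  have hcz : ∀ a b : P, ⁅a, b⁆ ∈ Z := fun a b => (QuotientGroup.eq_one_iff _).1 (by
    show QuotientGroup.mk' Z ⁅a, b⁆ = 1
    rw [map_commutatorElement, commutatorElement_eq_one_iff_mul_comm]
    exact (Subgroup.mem_center_iff.1 (hSall _).1 _).symm)
  have hcomm2 : ∀ a b : P, ⁅b, a⁆ = ⁅a, b⁆ := fun a b => by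
    rw [← commutatorElement_inv a b]
    exact inv_eq_of_mul_eq_one_right (hZ.1 (hcz a b))
  have hmulsq : ∀ a b : P, a * b * (a * b) = ⁅a, b⁆ * (a * a) * (b * b) := fun a b => by
    calc a * b * (a * b) = a * (⁅b, a⁆ * (a * b)) * b := by rw [commutatorElement_def]; group
      _ = ⁅b, a⁆ * a * (a * b) * b := by rw [← mul_assoc a, hZc (hcz b a) a]
      _ = _ := by rw [hcomm2]; group
  let β : P → P → F := fun a b => e ⟨⁅a, b⁆, hcz a b⟩
  have hβl : ∀ a a' b, β (a * a') b = β a b + β a' b := fun a a' b => by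
    show e _ = e _ + e _
    rw [← hadd]
    refine congrArg e (Subtype.ext ?_)
    show ⁅a * a', b⁆ = ⁅a, b⁆ * ⁅a', b⁆
    calc ⁅a * a', b⁆ = a * ⁅a', b⁆ * (b * a⁻¹ * b⁻¹) := by
          rw [commutatorElement_def, commutatorElement_def]; group
      _ = ⁅a', b⁆ * a * (b * a⁻¹ * b⁻¹) := by rw [hZc (hcz a' b) a]
      _ = ⁅a', b⁆ * ⁅a, b⁆ := by rw [commutatorElement_def a b]; group
      _ = _ := (hZc (hcz a' b) _).symm
  have hβq : ∀ a b, β a b =
      q (u (QuotientGroup.mk (a * b))) + q (u (QuotientGroup.mk a)) + q (u (QuotientGroup.mk b)) := by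
    intro a b
    rw [hqmk, hqmk, hqmk]
    have : sqm (QuotientGroup.mk (a * b)) =
        ⟨⁅a, b⁆, hcz a b⟩ * sqm (QuotientGroup.mk a) * sqm (QuotientGroup.mk b) :=
      Subtype.ext (by rw [Subgroup.coe_mul, Subgroup.coe_mul, hsqm_mk, hsqm_mk, hsqm_mk, hmulsq])
    rw [this, hadd, hadd]
    linear_combination (-1 : F) * CharTwo.add_self_eq_zero (e (sqm (QuotientGroup.mk a))) -
      CharTwo.add_self_eq_zero (e (sqm (QuotientGroup.mk b)))
  have hu' : Function.Surjective fun p : P => u (QuotientGroup.mk p) :=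
    u.surjective.comp QuotientGroup.mk_surjective
  let bq : F → F → F := fun x y => q (x + y) + q x + q y
  have hbqβ : ∀ a b : P, bq (u (QuotientGroup.mk a)) (u (QuotientGroup.mk b)) = β a b := fun a b => by
    rw [hβq, QuotientGroup.mk_mul, hu]
  have hbl : ∀ x x' y, bq (x + x') y = bq x y + bq x' y := fun x x' y => by
    obtain ⟨a, rfl⟩ := hu' x; obtain ⟨a', rfl⟩ := hu' x'; obtain ⟨b, rfl⟩ := hu' y
    simp only
    rw [← hu, ← QuotientGroup.mk_mul, hbqβ, hbqβ, hbqβ, hβl]
  have hbs : ∀ x y, bq x y = bq y x := fun x y => by simp only [bq]; rw [add_comm x y]; ring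
  let B : F →+ F →+ F := AddMonoidHom.mk'
    (fun x => AddMonoidHom.mk' (bq x) fun y y' => by rw [hbs, hbl, hbs y, hbs y']) fun x x' =>
      AddMonoidHom.ext fun y => hbl x x' y
  haveI : Finite (F ≃+* F) := Finite.of_injective _ DFunLike.coe_injective
  letI := Fintype.ofFinite (F ≃+* F)
  obtain ⟨d, hd⟩ := FieldSpan.exists_biadditive B
  have hscale := SingerField.coeff_scale hd (ω := μ) (ν := ω) fun x y => by
    show bq _ _ = ω * bq x y
    simp only [bq, ← mul_add, hqμ]
  obtain ⟨σ, τ, hne0⟩ : ∃ σ τ, d σ τ ≠ 0 := by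
    by_contra hall
    push Not at hall
    obtain ⟨a, b, hab⟩ := hne
    refine hab (commutatorElement_eq_one_iff_mul_comm.1 ?_)
    have h : β a b = e 1 := by
      rw [he1, ← hbqβ]
      show B _ _ = 0
      rw [hd]; simp [hall]
    exact congrArg Subtype.val (e.injective h)
  have hστ : σ μ * τ μ = ω := hscale σ τ hne0
  set c := q 1 with hc
  have hc0 : c ≠ 0 := fun h => one_ne_zero (hqinj (h.trans hq0.symm))
  have hqx : ∀ x, q x = c * (σ x * τ x) := by
    intro x
    by_cases hx : x = 0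
    · simp [hx, hq0]
    obtain ⟨i, rfl⟩ := hgenμ x hx
    induction i with
    | zero => simp [hc]
    | succ i ih =>
      rw [pow_succ', hqμ, ih (pow_ne_zero i fun h => by
        rw [h, zero_pow (by omega)] at hx; exact hx rfl), map_mul, map_mul, ← hστ]
      ring
  have hστne : σ ≠ τ := by
    rintro rfl
    refine hne0 ?_
    have hB : ∀ x y, B x y = 0 := fun x y => by
      show q (x + y) + q x + q y = 0
      rw [hqx, hqx, hqx, map_add]
      linear_combination (c * σ x * σ y) * (CharTwo.two_eq_zero (R := F)) +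
        (c * σ x * σ x) * (CharTwo.two_eq_zero (R := F)) + (c * σ y * σ y) * (CharTwo.two_eq_zero (R := F))
    exact congrFun (congrFun (FieldSpan.bicoeff_unique (d := d) (d' := fun _ _ => 0) fun x y => by
      rw [← hd, hB]; simp) σ) σ
  let φ : F ≃+* F := σ.symm.trans τ
  have hqφ : ∀ x, q x = c * (σ x * φ (σ x)) := fun x => by
    rw [hqx, RingEquiv.trans_apply, σ.symm_apply_apply]
  let πP : P →* Multiplicative F := MonoidHom.mk'
    (fun p => Multiplicative.ofAdd (σ (u (QuotientGroup.mk p)))) fun a b => by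
      rw [QuotientGroup.mk_mul, hu, map_add, ofAdd_add]
  let ιP : Multiplicative F →* P := MonoidHom.mk'
    (fun y => ((e.symm (c * y.toAdd) : Z) : P)) fun y y' => by
      rw [← Subgroup.coe_mul]
      refine congrArg Subtype.val (e.injective ?_)
      rw [hadd, Equiv.apply_symm_apply, Equiv.apply_symm_apply, Equiv.apply_symm_apply, toAdd_mul,
        mul_add]
  haveI : Finite (Cfsg.suzukiTypeA F (φ : F →+* F)) := inferInstance
  obtain ⟨Θ, hΘπ, hΘι⟩ : ∃ Θ : P ≃* Cfsg.suzukiTypeA F (φ : F →+* F),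
      (∀ p, proj _ (Θ p) = πP p) ∧ ∀ w, Θ (ιP w) = incl _ w := by
    refine equivOfSquares_compat πP (proj _) ιP (incl _) ?_ (proj_surjective _) ?_ (incl_injective _) ?_
      (fun a => ker_proj _) ?_
    · intro v
      obtain ⟨p, hp⟩ := hu' (σ.symm v.toAdd)
      refine ⟨p, ?_⟩
      show Multiplicative.ofAdd (σ (u _)) = v
      rw [show u (QuotientGroup.mk p) = σ.symm v.toAdd from hp, σ.apply_symm_apply, ofAdd_toAdd]
    · intro y y' h
      exact Multiplicative.toAdd.injective (mul_left_cancel₀ hc0 (e.symm.injective (Subtype.ext h)))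
    · intro p
      show Multiplicative.ofAdd (σ (u _)) = Multiplicative.ofAdd 0 ↔ _
      rw [Multiplicative.ofAdd.injective.eq_iff, map_eq_zero_iff σ σ.injective, ← hu1,
        u.injective.eq_iff, QuotientGroup.eq_one_iff]
      refine ⟨fun hp => ⟨Multiplicative.ofAdd (c⁻¹ * e ⟨p, hp⟩), ?_⟩, fun ⟨w, hw⟩ => hw ▸ (e.symm _).2⟩
      show ((e.symm (c * (c⁻¹ * e ⟨p, hp⟩)) : Z) : P) = p
      rw [← mul_assoc, mul_inv_cancel₀ hc0, one_mul, Equiv.symm_apply_apply]
    · intro p a h
      refine ⟨_, ?_, sq_eq _ a⟩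
      rw [← h]
      show p * p = ((e.symm (c * (σ (u (QuotientGroup.mk p)) * φ (σ (u (QuotientGroup.mk p))))) : Z) : P)
      rw [← hqφ, hqmk, Equiv.symm_apply_apply, hsqm_mk]
  have hφinj : Function.Injective (fun x : F => x * φ x) := by
    intro x y hxy
    simp only at hxy
    obtain ⟨x', rfl⟩ := σ.surjective x
    obtain ⟨y', rfl⟩ := σ.surjective y
    exact congrArg σ (hqinj (by rw [hqφ, hqφ, hxy]))
  let π : P → F := fun p => σ (u (QuotientGroup.mk p))
  let B₀ : P → F := fun p =>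
    ((Θ p : GL (Fin 3) F) : Matrix (Fin 3) (Fin 3) F) 2 0
  set ν := σ μ with hν
  set Ω' := ν * φ ν with hΩ'
  have hω' : ω = Ω' := by
    rw [← hστ, hΩ', hν]; simp [φ]
  have hπmul : ∀ p p', π (p * p') = π p + π p' := fun p p' => by
    simp only [π, QuotientGroup.mk_mul, hu, map_add]
  have hπα : ∀ p, π (α p) = ν * π p := fun p => by
    simp only [π, hν]
    rw [← map_mul, ← huα]
    congr 2
  have hΘ10 : ∀ p, ((Θ p : GL (Fin 3) F) : Matrix (Fin 3) (Fin 3) F) 1 0 = π p := fun p =>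
    Multiplicative.ofAdd.injective (hΘπ p)
  have hB0mul : ∀ p p', B₀ (p * p') = B₀ p + B₀ p' + φ (π p) * π p' := fun p p' => by
    obtain ⟨x, y, hg⟩ := (mem_iff (φ : F →+* F)).1 (Θ p).2
    obtain ⟨x', y', hg'⟩ := (mem_iff (φ : F →+* F)).1 (Θ p').2
    have hx : x = π p := by rw [← hΘ10, hg]; simp [elt, mat]
    have hx' : x' = π p' := by rw [← hΘ10, hg']; simp [elt, mat]
    simp only [B₀, map_mul, Subgroup.coe_mul, hg, hg', elt_mul]
    simp [elt, mat, hx, hx']
  have hB0Z : ∀ z : Z, B₀ z = c⁻¹ * e z := fun z => by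
    have h : (z : P) = ιP (Multiplicative.ofAdd (c⁻¹ * e z)) := by
      show _ = ((e.symm (c * (c⁻¹ * e z)) : Z) : P)
      rw [← mul_assoc, mul_inv_cancel₀ hc0, one_mul, Equiv.symm_apply_apply]
    simp only [B₀]
    rw [h, hΘι]
    simp [incl, elt, mat]
  have hν0 : ν ≠ 0 := by
    intro h
    obtain ⟨i, hi⟩ := hgenμ 1 one_ne_zero
    have hμ0 : μ = 0 := by simpa [hν] using h
    have hω0 : ω = 0 := by rw [← hστ, hμ0]; simp
    have : ∀ v : Z, e (αZ v) = 0 := fun v => by rw [hω, hω0, zero_mul]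
    obtain ⟨x, y, hxy⟩ := exists_pair_ne Z
    obtain ⟨x', rfl⟩ := αZ.surjective x
    obtain ⟨y', rfl⟩ := αZ.surjective y
    exact hxy (e.injective ((this x').trans (this y').symm))
  have hΩ0 : Ω' ≠ 0 := mul_ne_zero hν0 (by simpa using hν0)
  let Bf : P → F := fun p => ∑ i ∈ Finset.range n, Ω'⁻¹ ^ i * B₀ ((α ^ i) p)
  have hn1 : (n : F) = 1 := by
    obtain ⟨k, hk⟩ := hodd
    rw [hk]
    push_cast
    rw [CharTwo.two_eq_zero, zero_mul, zero_add]
  have hπpow : ∀ (i : ℕ) p, π ((α ^ i) p) = ν ^ i * π p := by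
    intro i
    induction i with
    | zero => intro p; simp
    | succ i ih => intro p; rw [pow_succ', MulAut.mul_apply, hπα, ih, pow_succ']; ring
  have hBmul : ∀ p p', Bf (p * p') = Bf p + Bf p' + φ (π p) * π p' := fun p p' => by
    simp only [Bf, map_mul, hB0mul, hπpow, mul_add, Finset.sum_add_distrib]
    congr 1
    rw [Finset.sum_congr rfl (g := fun _ => φ (π p) * π p') fun i _ => ?_]
    · rw [Finset.sum_const, Finset.card_range, nsmul_eq_mul, hn1, one_mul]
    · have : Ω'⁻¹ ^ i * (ν ^ i * φ ν ^ i) = 1 := by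
        rw [← mul_pow ν (φ ν), ← hΩ', ← mul_pow, inv_mul_cancel₀ hΩ0, one_pow]
      rw [map_pow]
      linear_combination (φ (π p) * π p') * this
  have hωpow : ∀ (i : ℕ) (v : Z), e ((αZ : MulAut _) ^ i • v) = ω ^ i * e v := by
    intro i
    induction i with
    | zero => intro v; simp
    | succ i ih => intro v; rw [pow_succ', mul_smul, pow_succ', mul_assoc, ← ih]; exact hω _
  have hαn : ∀ p, (α ^ n) p = p := fun p => by rw [hn]; rfl
  have hΩn : Ω'⁻¹ ^ n = 1 := by
    have h : ∀ v : Z, e ((αZ : MulAut _) ^ n • v) = ω ^ n * e v := hωpow n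
    obtain ⟨v, hv⟩ := e.surjective 1
    have h1 := h v
    rw [show (αZ : MulAut _) ^ n • v = v from Subtype.ext ((hαZ n v).trans (hαn v)), hv, mul_one,
      hω'] at h1
    rw [inv_pow, ← h1, inv_one]
  have hBα : ∀ p, Bf (α p) = Ω' * Bf p := fun p => by
    have key : ∀ i : ℕ, Ω'⁻¹ ^ i * B₀ ((α ^ i) (α p)) =
        Ω' * (Ω'⁻¹ ^ (i + 1) * B₀ ((α ^ (i + 1)) p)) := fun i => by
      rw [← MulAut.mul_apply, ← pow_succ, pow_succ' Ω'⁻¹]
      field_simp
    have h2 := Finset.sum_range_succ' (fun i => Ω'⁻¹ ^ i * B₀ ((α ^ i) p)) n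
    rw [Finset.sum_range_succ, hΩn, hn] at h2
    simp only [pow_zero, one_mul, MulAut.one_apply] at h2
    show ∑ i ∈ Finset.range n, _ = _
    rw [Finset.sum_congr rfl fun i _ => key i, ← Finset.mul_sum, ← add_right_cancel h2]
  have hBZ : ∀ z : Z, Bf z = c⁻¹ * e z := fun z => by
    have h : ∀ i : ℕ, Ω'⁻¹ ^ i * B₀ ((α ^ i) z) = c⁻¹ * e z := fun i => by
      rw [← hαZ, hB0Z]
      rw [hωpow, hω']
      have h1 : Ω'⁻¹ ^ i * Ω' ^ i = 1 := by rw [← mul_pow, inv_mul_cancel₀ hΩ0, one_pow]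
      linear_combination (c⁻¹ * e z) * h1
    show ∑ i ∈ Finset.range n, _ = _
    rw [Finset.sum_congr rfl fun i _ => h i, Finset.sum_const, Finset.card_range, nsmul_eq_mul, hn1,
      one_mul]
  have hbij : Function.Bijective (fun p => (π p, Bf p)) := by
    constructor
    · intro p p' h
      simp only [Prod.mk.injEq] at h
      have hq : (QuotientGroup.mk p : P ⧸ Z) = QuotientGroup.mk p' :=
        u.injective (σ.injective h.1)
      set z : Z := ⟨p⁻¹ * p', QuotientGroup.eq.1 hq⟩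
      have hz : π (z : P) = 0 := by
        show σ (u (QuotientGroup.mk _)) = 0
        rw [(QuotientGroup.eq_one_iff _).2 z.2, hu1, map_zero]
      have h2 := hBmul p z
      rw [hz, mul_zero, add_zero, show p * (z : P) = p' from mul_inv_cancel_left p p', ← h.2,
        left_eq_add, hBZ] at h2
      have hz1 : z = 1 := e.injective (by
        rw [he1]; exact (mul_eq_zero.1 h2).resolve_left (inv_ne_zero hc0))
      exact inv_mul_eq_one.1 (congrArg Subtype.val hz1)
    · rintro ⟨x, y⟩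
      obtain ⟨p, hp⟩ := hu' (σ.symm x)
      have hp' : π p = x := by show σ (u _) = x; simp only at hp; rw [hp, σ.apply_symm_apply]
      set z : Z := e.symm (c * (y + Bf p))
      have hz : π (z : P) = 0 := by
        show σ (u (QuotientGroup.mk _)) = 0
        rw [(QuotientGroup.eq_one_iff _).2 z.2, hu1, map_zero]
      refine ⟨p * z, Prod.ext ?_ ?_⟩
      · show π (p * z) = x
        rw [hπmul, hp', hz, add_zero]
      · show Bf (p * z) = y
        rw [hBmul, hz, mul_zero, add_zero, hBZ, Equiv.apply_symm_apply, ← mul_assoc,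
          inv_mul_cancel₀ hc0, one_mul, add_comm y, ← add_assoc, CharTwo.add_self_eq_zero, zero_add]
  refine ⟨F, inferInstance, inferInstance, inferInstance, φ, hF, ?_, hφinj,
    ⟨{ Φ := Equiv.ofBijective _ hbij
       ν := ν
       mul := fun p p' => Prod.ext (hπmul p p') (hBmul p p')
       equivariant := fun p => Prod.ext (hπα p) (hBα p)
       gen := fun x hx => ?_ }⟩⟩
  · by_contra hid
    push Not at hid
    refine hστne (RingEquiv.ext fun x => ?_)
    have := hid (σ x)
    simpa [φ] using this.symm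
  · obtain ⟨i, hi⟩ := hgenμ (σ.symm x) (by simpa using hx)
    exact ⟨i, by rw [hν, ← map_pow, hi, σ.apply_symm_apply]⟩

end CfsgLib.SzUnique
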