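import Cfsg.Agent.SzUnique.Model

/-!
Two simple models with the same field, automorphism and square root of the Frobenius map are isomorphic.
-/

set_option autoImplicit false
set_option linter.unusedSectionVars false
set_option linter.style.haveILetI false

namespace CfsgLib.SzUnique

open MulAction

variable {G Ω : Type*} [Group G] [MulAction G Ω] {F : Type*} [Field F] [CharP F 2] {φ : F ≃+* F}
variable (M : Model G Ω F φ)

/-- The points: the first one and those in coordinates. -/
def Model.point : Option (F × F) → Ω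
  | none => M.a
  | some p => M.pt p

theorem Model.point_bijective : Function.Bijective M.point := by
  constructor
  · rintro (_ | p) (_ | q) h
    · rfl
    · exact absurd h.symm (M.pt_ne q)
    · exact absurd h (M.pt_ne p)
    · exact congrArg some (M.pt_inj h)
  · intro c
    by_cases hc : c = M.a
    · exact ⟨none, hc.symm⟩
    · obtain ⟨p, hp⟩ := M.pt_surj hc
      exact ⟨some p, hp⟩

/-- The points in coordinates. -/
noncomputable def Model.pointEquiv : Option (F × F) ≃ Ω := Equiv.ofBijective _ M.point_bijective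

/-- The permutations of the coordinates. -/
noncomputable def Model.perm : G →* Equiv.Perm (Option (F × F)) :=
  (M.pointEquiv.symm.permCongrHom.toMonoidHom).comp (MulAction.toPermHom G Ω)

theorem Model.perm_apply (g : G) (o : Option (F × F)) :
    M.perm g o = M.pointEquiv.symm (g • M.pointEquiv o) := rfl

theorem Model.perm_injective : Function.Injective M.perm := by
  intro g g' h
  haveI := M.faithful
  refine eq_of_smul_eq_smul fun c : Ω => ?_
  obtain ⟨o, rfl⟩ := M.pointEquiv.surjective c
  exact M.pointEquiv.symm.injective (Equiv.congr_fun h o)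

theorem Model.perm_eq {g : G} {o o' : Option (F × F)} (h : g • M.point o = M.point o') :
    M.perm g o = o' := by
  rw [M.perm_apply, Equiv.symm_apply_eq]
  exact h

theorem Model.perm_el (p : F × F) :
    ⇑(M.perm (M.el p : G)) = fun o => Option.map (pm φ p) o := by
  funext o
  refine M.perm_eq ?_
  rcases o with _ | q
  · exact M.le (M.el p).2
  · show (M.el p : G) • M.pt q = M.pt (pm φ p q)
    rw [M.u_pt, M.Φ_el]

theorem Model.perm_t_none : M.perm M.t none = some 0 :=
  M.perm_eq (show M.t • M.a = M.pt 0 by rw [M.ta, M.pt_zero])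

theorem Model.perm_t_zero : M.perm M.t (some 0) = none :=
  M.perm_eq (show M.t • M.pt 0 = M.a by rw [M.pt_zero, M.tb])

theorem Model.perm_t_some {p : F × F} (hp : p ≠ 0) : M.perm M.t (some p) = some (M.σ p) :=
  M.perm_eq (M.σ_spec hp)

/-- A simple model is generated by the kernel and the involution. -/
theorem Model.closure_eq_top [Finite F] [Finite G] [IsSimpleGroup G] :
    Subgroup.closure ((M.U : Set G) ∪ {M.t}) = ⊤ := by
  set H := Subgroup.closure ((M.U : Set G) ∪ {M.t})
  have hU : M.U ≤ H := fun u hu => Subgroup.subset_closure (Or.inl hu)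
  have htH : M.t ∈ H := Subgroup.subset_closure (Or.inr rfl)
  set N := Subgroup.closure ((M.U : Set G) ∪ (fun u : G => M.t * u * M.t) '' M.U)
  have hNU : M.U ≤ N := fun u hu => Subgroup.subset_closure (Or.inl hu)
  have hNH : N ≤ H := by
    refine (Subgroup.closure_le _).2 ?_
    rintro x (hx | ⟨u, hu, rfl⟩)
    · exact hU hx
    · exact mul_mem (mul_mem htH (hU hu)) htH
  have hNt : ∀ x ∈ N, M.t * x * M.t ∈ N := by
    intro x hx
    induction hx using Subgroup.closure_induction with
    | mem y hy =>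
      rcases hy with hy | ⟨u, hu, rfl⟩
      · exact Subgroup.subset_closure (Or.inr ⟨y, hy, rfl⟩)
      · refine hNU ?_
        simp only [← mul_assoc, M.tt, one_mul]
        rw [mul_assoc, M.tt, mul_one]
        exact hu
    | one => rw [mul_one, M.tt]; exact one_mem N
    | mul y z _ _ hy hz =>
      have : M.t * (y * z) * M.t = M.t * y * M.t * (M.t * z * M.t) := by
        simp only [mul_assoc]
        rw [← mul_assoc M.t M.t, M.tt, one_mul]
      rw [this]
      exact mul_mem hy hz
    | inv y _ hy =>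
      have : M.t * y⁻¹ * M.t = (M.t * y * M.t)⁻¹ := by
        simp only [mul_inv_rev, M.t_inv, mul_assoc]
      rw [this]
      exact inv_mem hy
  have hNK : ∀ k ∈ M.K, ∀ x ∈ N, k * x * k⁻¹ ∈ N := by
    intro k hk x hx
    induction hx using Subgroup.closure_induction with
    | mem y hy =>
      rcases hy with hy | ⟨u, hu, rfl⟩
      · obtain ⟨l, -, hl⟩ := M.scalar k hk
        obtain ⟨h, -⟩ := hl ⟨y, hy⟩
        exact hNU h
      · obtain ⟨l, -, hl⟩ := M.scalar k⁻¹ (inv_mem hk)
        obtain ⟨h, -⟩ := hl ⟨u, hu⟩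
        refine Subgroup.subset_closure (Or.inr ⟨_, h, ?_⟩)
        have e := M.invert k hk
        show M.t * (k⁻¹ * u * k⁻¹⁻¹) * M.t = k * (M.t * u * M.t) * k⁻¹
        have e1 := (twist M.tt e).1
        calc M.t * (k⁻¹ * u * k⁻¹⁻¹) * M.t = (M.t * k⁻¹) * u * (k * M.t) := by group
          _ = (k * M.t) * u * (M.t * k⁻¹) := by rw [e1]
          _ = _ := by group
    | one => rw [mul_one, mul_inv_cancel]; exact one_mem N
    | mul y z _ _ hy hz =>
      have : k * (y * z) * k⁻¹ = k * y * k⁻¹ * (k * z * k⁻¹) := by group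
      rw [this]
      exact mul_mem hy hz
    | inv y _ hy =>
      have : k * y⁻¹ * k⁻¹ = (k * y * k⁻¹)⁻¹ := by group
      rw [this]
      exact inv_mem hy
  have hnorm : N.Normal := by
    refine ⟨fun x hx g => ?_⟩
    have hconj : ∀ g : G, (∀ x ∈ N, g * x * g⁻¹ ∈ N) := by
      intro g
      have hU' : ∀ u ∈ M.U, ∀ x ∈ N, u * x * u⁻¹ ∈ N := fun u hu x hx =>
        mul_mem (mul_mem (hNU hu) hx) (inv_mem (hNU hu))
      have hstab : ∀ g : G, g • M.a = M.a → ∀ x ∈ N, g * x * g⁻¹ ∈ N := by
        intro g hg x hx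
        have hne : g • M.b ≠ M.a := fun h => M.hab (smul_left_cancel g (hg.trans h.symm))
        obtain ⟨u, hu⟩ := M.reg_surj _ hne
        have hk : (u : G)⁻¹ * g ∈ M.K := by
          refine ⟨?_, ?_⟩
          · show _ • M.a = M.a
            rw [mul_smul, hg]
            exact inv_smul_eq_iff.2 (M.le u.2).symm
          · show _ • M.b = M.b
            rw [mul_smul, ← hu, inv_smul_smul]
        have := hU' _ u.2 _ (hNK _ hk x hx)
        have e : (u : G) * ((u : G)⁻¹ * g * x * ((u : G)⁻¹ * g)⁻¹) * (u : G)⁻¹ = g * x * g⁻¹ := by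
          group
        rwa [e] at this
      intro x hx
      by_cases hg : g • M.a = M.a
      · exact hstab g hg x hx
      obtain ⟨u, hu⟩ := M.reg_surj _ hg
      have h1 : (((u : G) * M.t)⁻¹ * g) • M.a = M.a := by
        rw [mul_smul, inv_smul_eq_iff, mul_smul, M.ta, hu]
      have := hU' _ u.2 _ (hNt _ (hstab _ h1 x hx))
      have e : (u : G) * (M.t * (((u : G) * M.t)⁻¹ * g * x * (((u : G) * M.t)⁻¹ * g)⁻¹) * M.t) *
          (u : G)⁻¹ = g * x * g⁻¹ := by
        simp only [mul_inv_rev, M.t_inv, inv_inv, ← mul_assoc]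
        simp only [mul_assoc]
        rw [← mul_assoc M.t M.t, M.tt, one_mul, ← mul_assoc M.t M.t, M.tt, one_mul]
        simp only [mul_inv_cancel_left, mul_inv_cancel, mul_one]
      rwa [e] at this
    exact hconj g x hx
  rcases hnorm.eq_bot_or_eq_top with h | h
  · exfalso
    have h1 : (M.u₀ : G) ∈ (⊥ : Subgroup G) := h ▸ hNU M.u₀.2
    have h2 : M.u₀ = 1 := Subtype.ext (Subgroup.mem_bot.1 h1)
    have := M.first
    rw [h2, M.Φ_one] at this
    exact zero_ne_one this
  · exact eq_top_iff.2 (h ▸ hNH)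

/-- Two simple models with the same data are isomorphic. -/
theorem Model.nonempty_equiv [Finite F] [Finite G] [IsSimpleGroup G] {G' Ω' : Type*} [Group G']
    [MulAction G' Ω'] [Finite G'] [IsSimpleGroup G'] (M' : Model G' Ω' F φ)
    (H : Sys φ M.b₀ M.σ) (H' : Sys φ M'.b₀ M'.σ) (hb : M.b₀ = M'.b₀) : Nonempty (G ≃* G') := by
  rw [← hb] at H'
  have hσ : ∀ p, p ≠ 0 → M.σ p = M'.σ p := fun p hp => H.ext_map H' hp
  have hel : ∀ p, M.perm (M.el p : G) = M'.perm (M'.el p : G') := fun p =>
    Equiv.ext fun o => by rw [M.perm_el, M'.perm_el]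
  have ht : M.perm M.t = M'.perm M'.t := by
    refine Equiv.ext fun o => ?_
    rcases o with _ | p
    · rw [M.perm_t_none, M'.perm_t_none]
    by_cases hp : p = 0
    · subst hp; rw [M.perm_t_zero, M'.perm_t_zero]
    · rw [M.perm_t_some hp, M'.perm_t_some hp, hσ p hp]
  have hrange : M.perm.range = M'.perm.range := by
    rw [MonoidHom.range_eq_map, MonoidHom.range_eq_map, ← M.closure_eq_top, ← M'.closure_eq_top,
      MonoidHom.map_closure, MonoidHom.map_closure]
    congr 1
    ext x
    constructor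
    · rintro ⟨g, hg | rfl, rfl⟩
      · exact ⟨_, Or.inl (M'.el (M.Φ ⟨g, hg⟩)).2, by rw [← hel, M.el_Φ]⟩
      · exact ⟨_, Or.inr rfl, ht.symm⟩
    · rintro ⟨g, hg | rfl, rfl⟩
      · exact ⟨_, Or.inl (M.el (M'.Φ ⟨g, hg⟩)).2, by rw [hel, M'.el_Φ]⟩
      · exact ⟨_, Or.inr rfl, ht⟩
  exact ⟨((MonoidHom.ofInjective M.perm_injective).trans (MulEquiv.subgroupCongr hrange)).trans
    (MonoidHom.ofInjective M'.perm_injective).symm⟩

/-- The change of coordinates exchanging an automorphism with its inverse. -/
noncomputable def Model.flip : Model G Ω F φ.symm where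
  a := M.a
  b := M.b
  t := M.t
  U := M.U
  Φ := M.Φ.trans
    { toFun := fun p => (p.1, φ.symm p.2 + p.1 * φ.symm p.1)
      invFun := fun p => (p.1, φ (p.2 + p.1 * φ.symm p.1))
      left_inv := fun p => by simp [add_assoc, add_self]
      right_inv := fun p => by simp [add_assoc, add_self] }
  u₀ := M.u₀
  hab := M.hab
  faithful := M.faithful
  le := M.le
  reg_inj := M.reg_inj
  reg_surj := M.reg_surj
  mul := fun p q => by
    simp only [Equiv.trans_apply, Equiv.coe_fn_mk, M.mul]
    refine Prod.ext rfl ?_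
    simp only [pm, map_add, map_mul, RingEquiv.symm_apply_apply]
    linear_combination (norm := (ring_nf; reduce_mod_char!))
  tt := M.tt
  ta := M.ta
  fixed := M.fixed
  first := M.first
  invert := M.invert
  odd := M.odd
  scalar := fun k hk => by
    obtain ⟨l, hl0, hl⟩ := M.scalar k hk
    refine ⟨l, hl0, fun u => ?_⟩
    obtain ⟨h, e⟩ := hl u
    refine ⟨h, ?_⟩
    simp only [Equiv.trans_apply, Equiv.coe_fn_mk, e]
    refine Prod.ext rfl ?_
    simp only [sc, map_mul, RingEquiv.symm_apply_apply]
    ring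
  scalar_surj := fun l hl0 => by
    obtain ⟨k, hk, hl⟩ := M.scalar_surj l hl0
    refine ⟨k, hk, fun u => ?_⟩
    obtain ⟨h, e⟩ := hl u
    refine ⟨h, ?_⟩
    simp only [Equiv.trans_apply, Equiv.coe_fn_mk, e]
    refine Prod.ext rfl ?_
    simp only [sc, map_mul, RingEquiv.symm_apply_apply]
    ring

/-- Transport of a model along an isomorphism of fields. -/
noncomputable def Model.transport {F' : Type*} [Field F'] (r : F ≃+* F') (φ' : F' ≃+* F')
    (hr : ∀ x, r (φ x) = φ' (r x)) : Model G Ω F' φ' where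
  a := M.a
  b := M.b
  t := M.t
  U := M.U
  Φ := M.Φ.trans (Equiv.prodCongr r.toEquiv r.toEquiv)
  u₀ := M.u₀
  hab := M.hab
  faithful := M.faithful
  le := M.le
  reg_inj := M.reg_inj
  reg_surj := M.reg_surj
  mul := fun p q => by
    simp [M.mul, pm, hr, Prod.map]
  tt := M.tt
  ta := M.ta
  fixed := M.fixed
  first := by simp [M.first, Prod.map]
  invert := M.invert
  odd := M.odd
  scalar := fun k hk => by
    obtain ⟨l, hl0, hl⟩ := M.scalar k hk
    refine ⟨r l, by simpa using hl0, fun u => ?_⟩
    obtain ⟨h, e⟩ := hl u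
    exact ⟨h, by simp [e, sc, hr, Prod.map]⟩
  scalar_surj := fun l hl0 => by
    obtain ⟨k, hk, hl⟩ := M.scalar_surj (r.symm l) (by simpa using hl0)
    refine ⟨k, hk, fun u => ?_⟩
    obtain ⟨h, e⟩ := hl u
    exact ⟨h, by simp [e, sc, hr, Prod.map]⟩

end CfsgLib.SzUnique
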