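import Cfsg.Agent.Suz.Order
import Cfsg.Agent.SzUnique.Coord
import Cfsg.Agent.SzUnique.Iso
import Cfsg.Agent.Suzuki.LieModel
import Cfsg.Agent.S0327

/-!
A simple Zassenhaus group with non-abelian two-kernel is a Suzuki group.
-/

set_option autoImplicit false
set_option linter.unusedSectionVars false
set_option linter.style.haveILetI false

namespace CfsgLib.SzUnique

open MulAction

/-- An automorphism whose square is the Frobenius map. -/
theorem eq_pow_of_sq {F : Type*} [Field F] [Fintype F] [CharP F 2] {m : ℕ}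
    (hF : Fintype.card F = 2 ^ (2 * m + 1)) (hm : 1 ≤ m) (φ : F ≃+* F) (hφ : ∀ x, φ (φ x) = x * x) (x : F) :
    φ x = x ^ (2 ^ (m + 1)) := by
  letI := ZMod.algebra F 2
  haveI : Fact (Nat.Prime 2) := ⟨Nat.prime_two⟩
  let ψ : F ≃ₐ[ZMod 2] F := AlgEquiv.ofRingEquiv (f := φ) fun c =>
    RingHom.congr_fun (RingHom.ext_zmod ((φ : F →+* F).comp (algebraMap (ZMod 2) F))
      (algebraMap (ZMod 2) F)) c
  obtain ⟨⟨i, hi⟩, he⟩ := (FiniteField.bijective_frobeniusAlgEquivOfAlgebraic_pow (ZMod 2) F).2 ψ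
  have hpow : ∀ (j : ℕ) (y : F),
      (FiniteField.frobeniusAlgEquivOfAlgebraic (ZMod 2) F ^ j) y = y ^ (2 ^ j) := fun j y => by
    rw [AlgEquiv.coe_pow, FiniteField.coe_frobeniusAlgEquivOfAlgebraic_iterate]
    simp
  have hφi : ∀ y, φ y = y ^ (2 ^ i) := fun y => by
    have := AlgEquiv.congr_fun he y
    simp only [hpow] at this
    exact this.symm
  have hfin : Module.finrank (ZMod 2) F = 2 * m + 1 := by
    have h := Module.card_eq_pow_finrank (K := ZMod 2) (V := F)
    rw [hF, ZMod.card] at h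
    exact (Nat.pow_right_injective le_rfl h).symm
  have h2 : FiniteField.frobeniusAlgEquivOfAlgebraic (ZMod 2) F ^ (2 * i) =
      FiniteField.frobeniusAlgEquivOfAlgebraic (ZMod 2) F ^ 1 := AlgEquiv.ext fun y => by
    rw [hpow, hpow, two_mul, pow_add, pow_mul, ← hφi, ← hφi, hφ]
    ring
  rw [pow_eq_pow_iff_modEq, FiniteField.orderOf_frobeniusAlgEquivOfAlgebraic, hfin] at h2
  rw [hfin] at hi
  have hi' : i = m + 1 := by
    have h3 := h2
    unfold Nat.ModEq at h3
    rcases Nat.lt_or_ge (2 * i) (2 * m + 1) with h | h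
    · rw [Nat.mod_eq_of_lt h] at h3
      rw [Nat.mod_eq_of_lt (by omega)] at h3; omega
    · rw [Nat.mod_eq_sub_mod h, Nat.mod_eq_of_lt (by omega)] at h3
      rw [Nat.mod_eq_of_lt (by omega)] at h3; omega
  rw [hφi, hi']

theorem no_cube {F : Type*} [Field F] [Fintype F] [CharP F 2] {m : ℕ}
    (hF : Fintype.card F = 2 ^ (2 * m + 1)) (x : F) : x * x + x + 1 ≠ 0 := by
  intro h
  have h3 : x ^ 3 = 1 := by linear_combination (x - 1) * h
  have hx : x ≠ 0 := fun e => by rw [e] at h; simp at h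
  have hq := FiniteField.pow_card_sub_one_eq_one x hx
  rw [hF] at hq
  have h3n : ¬ 3 ∣ 2 ^ (2 * m + 1) - 1 := by
    have : 2 ^ (2 * m + 1) % 3 = 2 := by
      rw [pow_succ, pow_mul, Nat.mul_mod, Nat.pow_mod]; simp
    omega
  have hord : orderOf x ∣ 3 := orderOf_dvd_of_pow_eq_one h3
  rcases (Nat.dvd_prime Nat.prime_three).1 hord with e | e
  · rw [orderOf_eq_one_iff] at e
    rw [e, one_mul, CharTwo.add_self_eq_zero, zero_add] at h
    exact one_ne_zero h
  · exact h3n (e ▸ orderOf_dvd_of_pow_eq_one hq)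

variable {G Ω : Type*} [Group G] [Finite G] [MulAction G Ω] [Finite Ω] [IsSimpleGroup G]

/-- The model of a simple Zassenhaus group with non-abelian two-kernel. -/
theorem exists_model (hZ : Cfsg.IsZassenhausGroup G Ω) (a : Ω) (U : Subgroup G)
    (hUle : U ≤ stabilizer G a) (hUn : (U.subgroupOf (stabilizer G a)).Normal)
    (hU2 : IsPGroup 2 U) (hUna : ∃ u v : U, u * v ≠ v * u)
    (hreg : ∀ y z : Ω, y ≠ a → z ≠ a → ∃! u : U, (u : G) • y = z) :
    ∃ (F : Type) (_ : Field F) (_ : Fintype F) (_ : CharP F 2) (φ : F ≃+* F) (m : ℕ)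
      (M : Model G Ω F φ), 1 ≤ m ∧ Fintype.card F = 2 ^ (2 * m + 1) ∧
      (∀ x, φ (φ x) = x * x) ∧ M.b₀ = 1 ∧ Sys φ M.b₀ M.σ ∧ ∀ w : G, w * w * w = 1 → w = 1 := by
  classical
  haveI := Fintype.ofFinite Ω
  haveI := Fintype.ofFinite G
  obtain ⟨b, hb⟩ : ∃ y : Ω, y ≠ a := by
    have h3 := CfsgLib.Char.zassenhaus_three_le hZ
    exact Fintype.exists_ne_of_one_lt_card (by omega) a
  have hab : a ≠ b := hb.symm
  obtain ⟨hcard, hfix⟩ := CfsgLib.Zass.kernel_of_regular hUle hreg hb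
  obtain ⟨g₀, α, e, C⟩ := CfsgLib.SuzTop.exists_cfg hZ hab hUle hcard hfix hUn hreg hU2 hUna
  obtain ⟨m, hm1, hm⟩ := C.exists_odd_pow
  obtain ⟨hh, -⟩ := C.index_eq_q
  obtain ⟨-, -, hinv⟩ := CfsgLib.Char.zass_simple_pair hZ hab C.odd
  have heodd : Odd e := C.card_pair ▸ C.odd
  have hbot : CfsgLib.SuzTop.Inv α (⊥ : Subgroup U) := fun x hx => by
    rw [Subgroup.mem_bot] at hx ⊢; rw [hx, map_one]
  have htrans : CfsgLib.Recog.SuzukiTwo.Trans α := by
    intro x y hx hx2 hy hy2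
    obtain ⟨i, hi⟩ := C.frame.trans_quot (A := ⊥) (B := Subgroup.center U) hbot
      (CfsgLib.SuzTop.inv_of_characteristic _) bot_le
      (by rw [Subgroup.relIndex_bot_left, C.frame.card_center]) ((C.frame.center_iff x).2 hx2)
      (fun h => hx (Subgroup.mem_bot.1 h)) ((C.frame.center_iff y).2 hy2)
      (fun h => hy (Subgroup.mem_bot.1 h))
    exact ⟨i, inv_mul_eq_one.1 (Subgroup.mem_bot.1 hi)⟩
  obtain ⟨F, i1, i2, i3, φ, hF, hφne, hφinj, ⟨D⟩⟩ :=
    exists_coord hU2 htrans hUna (by rw [hh, C.frame.card_center]) C.frame.pow_e heodd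
  have hFm : Fintype.card F = 2 ^ (2 * m + 1) := by rw [hF, C.frame.card_center, hm]
  -- the involution
  haveI := hZ.2.1
  obtain ⟨t, hta, htb⟩ := (MulAction.is_two_pretransitive_iff (α := Ω) (G := G)).1 hZ.2.1
    hab hab.symm
  have htt : t * t = 1 := by
    have hK : t * t ∈ stabilizer G a ⊓ stabilizer G b := by
      refine ⟨?_, ?_⟩
      · show (t * t) • a = a
        rw [mul_smul, hta, htb]
      · show (t * t) • b = b
        rw [mul_smul, htb, hta]
    have h1 := hinv t hta htb _ hK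
    have h2 : (t * t) * (t * t) = 1 := by
      have : t * (t * t) * t⁻¹ = t * t := by group
      rw [this] at h1
      nth_rw 2 [h1]
      exact mul_inv_cancel _
    set k : ↥(stabilizer G a ⊓ stabilizer G b) := ⟨t * t, hK⟩
    have hk2 : orderOf k ∣ 2 := orderOf_dvd_of_pow_eq_one (Subtype.ext (by rw [pow_two]; exact h2))
    have hkc : orderOf k ∣ Nat.card ↥(stabilizer G a ⊓ stabilizer G b) := orderOf_dvd_natCard k
    rcases (Nat.dvd_prime Nat.prime_two).1 hk2 with h | h
    · exact congrArg Subtype.val (orderOf_eq_one_iff.1 h)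
    · exfalso
      rw [h] at hkc
      exact (Nat.not_even_iff_odd.2 C.odd) (even_iff_two_dvd.2 hkc)
  have hti : t⁻¹ = t := inv_eq_of_mul_eq_one_right htt
  have hinvert : ∀ k ∈ stabilizer G a ⊓ stabilizer G b, t * k * t = k⁻¹ := fun k hk => by
    have := hinv t hta htb k hk
    rwa [hti] at this
  have hodd : ∀ k ∈ stabilizer G a ⊓ stabilizer G b, k * k = 1 → k = 1 := fun k hk hkk => by
    by_contra hne
    have h2 : orderOf k = 2 := orderOf_eq_prime (p := 2) (by rw [sq, hkk]) hne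
    have hdvd := Subgroup.orderOf_dvd_natCard _ hk
    rw [h2] at hdvd
    exact (Nat.not_even_iff_odd.2 C.odd) (even_iff_two_dvd.2 hdvd)
  -- its fixed point
  obtain ⟨c, hc⟩ : ∃ c : Ω, t • c = c := by
    haveI : Fact (Nat.Prime 2) := ⟨Nat.prime_two⟩
    have hoddΩ : ¬ 2 ∣ Fintype.card Ω := by
      rw [← hcard, hh, hm, ← pow_mul]
      intro h
      have h2 : 2 ∣ 2 ^ ((2 * m + 1) * 2) := dvd_pow_self 2 (by omega)
      omega
    obtain ⟨c, hc⟩ := Equiv.Perm.exists_fixed_point_of_prime (n := 1) hoddΩ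
      (σ := MulAction.toPerm t) (by
        ext x
        rw [pow_one, pow_two, Equiv.Perm.mul_apply]
        show t • t • x = x
        rw [← mul_smul, htt, one_smul])
    exact ⟨c, hc⟩
  have hca : c ≠ a := fun h => hab (by rw [h] at hc; exact hc.symm.trans hta)
  obtain ⟨u, hu, -⟩ := hreg b c hb hca
  -- it is not central
  have hu1 : (D.Φ u).1 ≠ 0 := by
    intro h0
    have huu : u * u = 1 := by
      apply D.Φ.injective
      have hone : D.Φ 1 = 0 := by
        have h := D.mul 1 1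
        rw [mul_one] at h
        have h1 := congrArg Prod.fst h
        have h2 := congrArg Prod.snd h
        simp only [pm] at h1 h2
        rw [CharTwo.add_self_eq_zero] at h1
        rw [h1, mul_zero, add_zero, CharTwo.add_self_eq_zero] at h2
        exact Prod.ext h1 h2
      rw [D.mul, hone]
      simp [pm, h0, CharTwo.add_self_eq_zero]
    have hug : (u : G) * u = 1 := congrArg Subtype.val huu
    have hua : (u : G) • a = a := hUle u.2
    have huc : (u : G) • c = b := by rw [← hu, ← mul_smul, hug, one_smul]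
    set X := (u : G) * t * (u * t) * (u * t) with hX
    have hXK : X ∈ stabilizer G a ⊓ stabilizer G b := by
      refine ⟨?_, ?_⟩
      · show X • a = a
        simp only [hX, mul_smul, hta, hu, hc, huc, htb, hua]
      · show X • b = b
        simp only [hX, mul_smul, htb, hua, hta, hu, hc, huc]
    have hn : X * u * X⁻¹ ∈ U := by
      have := hUn.conj_mem ⟨(u : G), hUle u.2⟩ (Subgroup.mem_subgroupOf.2 u.2) ⟨X, hXK.1⟩
      simpa [Subgroup.mem_subgroupOf] using this
    have hui : (u : G)⁻¹ = u := inv_eq_of_mul_eq_one_right hug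
    have hXi : (u : G) * X * u = X⁻¹ := by
      simp only [hX, mul_inv_rev, hti, hui, ← mul_assoc, hug, one_mul]
    have hX2 : X * X = 1 := by
      have h1 : (u : G) * (X * u * X⁻¹) = X⁻¹ * X⁻¹ := by
        rw [← mul_assoc, ← mul_assoc, hXi]
      have h2 : X⁻¹ * X⁻¹ ∈ U := h1 ▸ mul_mem u.2 hn
      have h3 : X⁻¹ * X⁻¹ = 1 := by
        by_contra hne
        have hXb : (X⁻¹ * X⁻¹) • b = b := by
          have : X⁻¹ • b = b := inv_smul_eq_iff.2 hXK.2.symm
          rw [mul_smul, this, this]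
        exact hb (hfix _ h2 hne b hXb)
      rw [← mul_inv_rev, inv_eq_one] at h3
      exact h3
    have hX1 : X = 1 := hodd X hXK hX2
    have hne : (u : G) * t ≠ 1 := by
      intro e
      have : t • a = a := by
        rw [eq_inv_of_mul_eq_one_right e, hui, hua]
      exact hab (this.symm.trans hta)
    have h3 : orderOf ((u : G) * t) = 3 := by
      haveI : Fact (Nat.Prime 3) := ⟨Nat.prime_three⟩
      exact orderOf_eq_prime (by rw [pow_succ, pow_two]; exact hX1) hne
    obtain ⟨m', -, hG⟩ := C.suzuki_order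
    have h3G : 3 ∣ Nat.card G := h3 ▸ orderOf_dvd_natCard _
    rw [hG] at h3G
    have hq : 2 ^ (2 * m' + 1) % 3 = 2 := by
      rw [pow_succ, pow_mul, Nat.mul_mod, Nat.pow_mod]; simp
    generalize 2 ^ (2 * m' + 1) = q at hq h3G
    rcases (Nat.prime_three.dvd_mul).1 h3G with h | h
    · rcases (Nat.prime_three.dvd_mul).1 h with h | h
      · have := Nat.prime_three.dvd_of_dvd_pow h; omega
      · have h' := Nat.mod_eq_zero_of_dvd h
        rw [Nat.add_mod, Nat.pow_mod, hq] at h'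
        norm_num at h'
    · omega
  -- the model
  have hconj : ∀ (i : ℕ) (v : U), D.Φ ((α ^ i) v) = sc φ (D.ν ^ i) (D.Φ v) := by
    intro i
    induction i with
    | zero => intro v; simp [sc]
    | succ i ih =>
      intro v
      rw [pow_succ', MulAut.mul_apply, D.equivariant, ih, sc_sc, pow_succ']
  have hν : D.ν ≠ 0 := by
    intro h0
    obtain ⟨z, hz0, hz1⟩ : ∃ z : F, z ≠ 0 ∧ z ≠ 1 := by
      obtain ⟨x, hx⟩ := hφne
      exact ⟨x, fun h => hx (by rw [h, map_zero]), fun h => hx (by rw [h, map_one])⟩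
    obtain ⟨i, hi⟩ := D.gen z hz0
    rcases i with _ | i
    · exact hz1 (by rw [← hi, pow_zero])
    · exact hz0 (by rw [← hi, h0, zero_pow (by omega)])
  set d := (D.Φ u).1 with hd
  have hd0 : d⁻¹ ≠ 0 := inv_ne_zero hu1
  let Φ' : U ≃ F × F := D.Φ.trans
    { toFun := sc φ d⁻¹
      invFun := sc φ d
      left_inv := fun p => by rw [sc_sc, mul_inv_cancel₀ hu1, sc_one]
      right_inv := fun p => by rw [sc_sc, inv_mul_cancel₀ hu1, sc_one] }
  have hscal : ∀ (i : ℕ) (v : U), ∃ h : g₀ ^ i * v * (g₀ ^ i)⁻¹ ∈ U,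
      Φ' ⟨_, h⟩ = sc φ (D.ν ^ i) (Φ' v) := by
    intro i v
    have e1 := CfsgLib.SuzTop.conj_pow C.conj i v
    refine ⟨e1 ▸ ((α ^ i) v).2, ?_⟩
    have e2 : (⟨_, e1 ▸ ((α ^ i) v).2⟩ : U) = (α ^ i) v := Subtype.ext e1.symm
    show sc φ d⁻¹ (D.Φ _) = sc φ _ (sc φ d⁻¹ (D.Φ v))
    rw [e2, hconj, sc_sc, sc_sc, mul_comm]
  let M : Model G Ω F φ :=
    { a := a
      b := b
      t := t
      U := U
      Φ := Φ'
      u₀ := u
      hab := hab
      faithful := hZ.1
      le := hUle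
      reg_inj := fun v w h => by
        obtain ⟨x, -, hx⟩ := hreg b ((w : G) • b) hb fun h' => hb (by
          have : (w : G)⁻¹ • a = a := inv_smul_eq_iff.2 (hUle w.2).symm
          rw [← inv_smul_smul (w : G) b, h', this])
        exact (hx v h).trans (hx w rfl).symm
      reg_surj := fun c' hc' => (hreg b c' hb hc').exists
      mul := fun p q => by
        show sc φ d⁻¹ (D.Φ (p * q)) = pm φ (sc φ d⁻¹ (D.Φ p)) (sc φ d⁻¹ (D.Φ q))
        rw [D.mul]
        refine Prod.ext ?_ ?_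
        · simp only [sc, pm]; ring
        · simp only [sc, pm, map_mul]; ring
      tt := htt
      ta := hta
      fixed := by rw [hu]; exact hc
      first := by
        show d⁻¹ * (D.Φ u).1 = 1
        rw [← hd, inv_mul_cancel₀ hu1]
      invert := hinvert
      odd := hodd
      scalar := fun k hk => by
        obtain ⟨i, rfl⟩ := C.gen k hk
        exact ⟨D.ν ^ i, pow_ne_zero _ hν, hscal i⟩
      scalar_surj := fun l hl => by
        obtain ⟨i, rfl⟩ := D.gen l hl
        exact ⟨g₀ ^ i, pow_mem C.gen_mem i, hscal i⟩ }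
  have hno : ∀ w : G, w * w * w = 1 → w = 1 := by
    intro w hw
    by_contra hne
    haveI : Fact (Nat.Prime 3) := ⟨Nat.prime_three⟩
    obtain ⟨m', -, hG⟩ := C.suzuki_order
    have h3G : 3 ∣ Nat.card G :=
      (orderOf_eq_prime (p := 3) (by rw [pow_succ, pow_two]; exact hw) hne) ▸ orderOf_dvd_natCard w
    rw [hG] at h3G
    have hq : 2 ^ (2 * m' + 1) % 3 = 2 := by
      rw [pow_succ, pow_mul, Nat.mul_mod, Nat.pow_mod]; simp
    generalize 2 ^ (2 * m' + 1) = q at hq h3G
    rcases (Nat.prime_three.dvd_mul).1 h3G with h | h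
    · rcases (Nat.prime_three.dvd_mul).1 h with h | h
      · have := Nat.prime_three.dvd_of_dvd_pow h; omega
      · have h' := Nat.mod_eq_zero_of_dvd h
        rw [Nat.add_mod, Nat.pow_mod, hq] at h'
        norm_num at h'
    · omega
  have hbig : ∃ x : F, x ≠ 0 ∧ x ≠ 1 := by
    obtain ⟨x, hx⟩ := hφne
    exact ⟨x, fun h => hx (by rw [h, map_zero]), fun h => hx (by rw [h, map_one])⟩
  have S := M.sys hφinj (no_cube hFm) hno
  rcases S.cases hbig hφne with ⟨hb1, hsq⟩ | ⟨-, hsq⟩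
  · exact ⟨F, i1, i2, i3, φ, m, M, hm1, hFm, hsq, hb1, S, hno⟩
  · have hinj' : Function.Injective fun x : F => x * φ.symm x := by
      intro x y h
      simp only at h
      refine φ.symm.injective (hφinj ?_)
      simp only [RingEquiv.apply_symm_apply]
      linear_combination h
    have hne' : ∃ x, φ.symm x ≠ x := by
      obtain ⟨x, hx⟩ := hφne
      exact ⟨x, fun h => hx (by nth_rw 1 [← h]; exact φ.apply_symm_apply x)⟩
    have hsq' : ∀ x, φ.symm (φ.symm x) = x * x := fun x => by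
      have := hsq (φ.symm (φ.symm x))
      simp only [RingEquiv.apply_symm_apply] at this
      exact this.symm
    have S' := M.flip.sys hinj' (no_cube hFm) hno
    rcases S'.cases hbig hne' with ⟨hb1, -⟩ | ⟨-, hsq''⟩
    · exact ⟨F, i1, i2, i3, φ.symm, m, M.flip, hm1, hFm, hsq', hb1, S', hno⟩
    · exfalso
      obtain ⟨x, hx⟩ := hne'
      have h4 : ∀ x : F, x * x * (x * x) = x := fun x => by
        have := hsq'' x
        rwa [hsq'] at this
      have h5 : ∀ x : F, x ≠ 0 → x ^ 3 = 1 := fun x hx => mul_left_cancel₀ hx (by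
        rw [mul_one]
        linear_combination h4 x)
      obtain ⟨z, hz0, hz1⟩ := hbig
      have := h5 z hz0
      have hzz : (z - 1) * (z * z + z + 1) = 0 := by linear_combination this
      exact no_cube hFm z ((mul_eq_zero.1 hzz).resolve_left (sub_ne_zero.2 hz1))

/-- The Suzuki group has a model. -/
theorem exists_natural (m : ℕ) (hm : 1 ≤ m) :
    ∃ (L : Type) (_ : Field L) (_ : Fintype L) (_ : CharP L 2),
      Fintype.card L = 2 ^ (2 * m + 1) ∧
      ∃ (F : Type) (_ : Field F) (_ : Fintype F) (_ : CharP F 2) (φ : F ≃+* F) (Ω : Type)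
        (_ : MulAction (CfsgLib.Suzuki.SzG L m) Ω) (M : Model (CfsgLib.Suzuki.SzG L m) Ω F φ),
        Fintype.card F = 2 ^ (2 * m + 1) ∧ (∀ x, φ (φ x) = x * x) ∧ M.b₀ = 1 ∧
        ∀ w : CfsgLib.Suzuki.SzG L m, w * w * w = 1 → w = 1 := by
  classical
  haveI : Fact (Nat.Prime 2) := ⟨Nat.prime_two⟩
  let L := GaloisField 2 (2 * m + 1)
  letI : Fintype L := Fintype.ofFinite L
  have hcard : Fintype.card L = 2 ^ (2 * m + 1) := by
    rw [← Nat.card_eq_fintype_card]; exact GaloisField.card 2 _ (by omega)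
  have h : CfsgLib.Suzuki.IsSzField L m := CfsgLib.Suzuki.isSzField_of_card hm hcard
  refine ⟨L, inferInstance, inferInstance, inferInstance, hcard, ?_⟩
  haveI := CfsgLib.Suzuki.isSimpleGroup_Sz h
  haveI := CfsgLib.Suzuki.finite_SL h
  have hZ := Cfsg.Agent.S0327.result hm hcard
  set o : Cfsg.suzukiOvoid L m := ⟨_, CfsgLib.Suzuki.inf_mem⟩ with ho
  set U := CfsgLib.Suzuki.unip h with hU
  have hUle : U ≤ MulAction.stabilizer _ o := fun g hg =>
    Subtype.ext (CfsgLib.Suzuki.unip_le_stab h hg)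
  have hUn : (U.subgroupOf (MulAction.stabilizer _ o)).Normal := by
    refine ⟨fun x hx g => ?_⟩
    rw [Subgroup.mem_subgroupOf] at hx ⊢
    obtain ⟨a, b, hx⟩ := hx
    obtain ⟨c, d, s, hgs⟩ := (CfsgLib.Suzuki.mem_stab_inf h).1 (congrArg Subtype.val g.2 :
      (g : CfsgLib.Suzuki.SzG L m) ∈ MulAction.stabilizer _ (CfsgLib.Suzuki.inf L))
    have hxe : (x : CfsgLib.Suzuki.SzG L m) = CfsgLib.Suzuki.uE h a b := Subtype.ext hx
    rw [Subgroup.coe_mul, Subgroup.coe_mul, Subgroup.coe_inv, hgs, hxe, mul_inv_rev, mul_assoc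
      (CfsgLib.Suzuki.uE h c d), CfsgLib.Suzuki.dE_mul_uE, ← mul_assoc (CfsgLib.Suzuki.uE h c d),
      mul_assoc (_ * _), mul_inv_cancel_left]
    exact mul_mem (mul_mem (CfsgLib.Suzuki.uE_mem h c d) (CfsgLib.Suzuki.uE_mem h _ _))
      (inv_mem (CfsgLib.Suzuki.uE_mem h c d))
  have hcardU : Nat.card U = 2 ^ (2 * (2 * m + 1)) := by
    rw [hU, CfsgLib.Suzuki.card_unip, Nat.card_eq_fintype_card, hcard, ← pow_mul, mul_comm]
  have hU2 : IsPGroup 2 U := IsPGroup.of_card hcardU
  have hUna : ∃ u v : U, u * v ≠ v * u := by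
    obtain ⟨s, hs, -⟩ := CfsgLib.Suzuki.exists_unit_sg_ne_one h
    refine ⟨⟨_, CfsgLib.Suzuki.uE_mem h (s : L) 0⟩, ⟨_, CfsgLib.Suzuki.uE_mem h 1 0⟩, fun e => ?_⟩
    have e' : CfsgLib.Suzuki.uE h (s : L) 0 * CfsgLib.Suzuki.uE h 1 0 =
      CfsgLib.Suzuki.uE h 1 0 * CfsgLib.Suzuki.uE h (s : L) 0 := congrArg Subtype.val e
    rw [CfsgLib.Suzuki.uE_mul, CfsgLib.Suzuki.uE_mul] at e'
    have e'' := (CfsgLib.Suzuki.U_injective (congrArg Subtype.val e')).2
    simp only [CfsgLib.Suzuki.sg_one, zero_add, one_mul, mul_one] at e''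
    have h2 := h.sg_sg (s : L)
    rw [e'', e''] at h2
    have h3 : (s : L) * ((s : L) - 1) = 0 := by linear_combination -h2
    rcases mul_eq_zero.1 h3 with h4 | h4
    · exact s.ne_zero h4
    · rw [sub_eq_zero] at h4
      rw [h4, CfsgLib.Suzuki.sg_one] at hs
      exact hs (CharTwo.add_self_eq_zero 1)
  have hreg : ∀ y z : Cfsg.suzukiOvoid L m, y ≠ o → z ≠ o →
      ∃! u : U, (u : CfsgLib.Suzuki.SzG L m) • y = z := by
    rintro ⟨y, hy⟩ ⟨z, hz⟩ hyo hzo
    rcases CfsgLib.Suzuki.mem_ovoid.1 hy with rfl | ⟨x, w, rfl⟩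
    · exact absurd rfl hyo
    rcases CfsgLib.Suzuki.mem_ovoid.1 hz with rfl | ⟨x', w', rfl⟩
    · exact absurd rfl hzo
    refine ⟨⟨_, CfsgLib.Suzuki.uE_mem h (x' - x) (w' - w - CfsgLib.Suzuki.sg m (x' - x) * x)⟩,
      Subtype.ext ?_, ?_⟩
    · show CfsgLib.Suzuki.U m (x' - x) (w' - w - CfsgLib.Suzuki.sg m (x' - x) * x) •
        CfsgLib.Suzuki.pt m x w = CfsgLib.Suzuki.pt m x' w'
      rw [CfsgLib.Suzuki.U_smul_pt h]
      exact (CfsgLib.Suzuki.pt_eq_iff (F := L)).2 ⟨by ring, by ring⟩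
    · rintro ⟨g, a, b, hg⟩ hgy
      have e : CfsgLib.Suzuki.U m a b • CfsgLib.Suzuki.pt m x w = CfsgLib.Suzuki.pt m x' w' := by
        rw [← hg]; exact congrArg Subtype.val hgy
      rw [CfsgLib.Suzuki.U_smul_pt h, CfsgLib.Suzuki.pt_eq_iff] at e
      obtain ⟨rfl, rfl⟩ := e
      refine Subtype.ext (Subtype.ext (hg.trans ?_))
      simp only [CfsgLib.Suzuki.uE_val, add_sub_cancel_left]
      congr 1
      ring
  obtain ⟨F, i1, i2, i3, φ, m', M, -, hF, hsq, hb, -, hno⟩ := exists_model hZ o U hUle hUn hU2 hUna hreg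
  refine ⟨F, i1, i2, i3, φ, _, _, M, ?_, hsq, hb, hno⟩
  have hpts := M.pointEquiv
  have h1 := Nat.card_congr hpts
  rw [Finite.card_option, Nat.card_prod, CfsgLib.Suzuki.card_ovoid, Nat.card_eq_fintype_card,
    Nat.card_eq_fintype_card, hcard, ← pow_two] at h1
  exact Nat.pow_left_injective two_ne_zero (by simpa using h1)

/-- A simple Zassenhaus group with non-abelian two-kernel is a Suzuki group. -/
theorem isoSuzuki_of_zass (hZ : Cfsg.IsZassenhausGroup G Ω) (x : Ω) (U : Subgroup G)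
    (hUle : U ≤ stabilizer G x) (hUn : (U.subgroupOf (stabilizer G x)).Normal)
    (hU2 : IsPGroup 2 U) (hUna : ∃ u v : U, u * v ≠ v * u)
    (hreg : ∀ y z : Ω, y ≠ x → z ≠ x → ∃! u : U, (u : G) • y = z) :
    Cfsg.Lie.IsoSuzuki G := by
  classical
  obtain ⟨F, i1, i2, i3, φ, m, M, hm, hF, hsq, hb, S, -⟩ := exists_model hZ x U hUle hUn hU2 hUna hreg
  obtain ⟨L, j1, j2, j3, hL, F', k1, k2, k3, φ', Ω', act, M', hF', hsq', hb', hno⟩ :=
    exists_natural m hm
  have h : CfsgLib.Suzuki.IsSzField L m := CfsgLib.Suzuki.isSzField_of_card hm hL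
  haveI := CfsgLib.Suzuki.isSimpleGroup_Sz h
  haveI := CfsgLib.Suzuki.finite_SL h
  set r : F' ≃+* F := FiniteField.ringEquivOfCardEq (K := F') (K' := F) (hF'.trans hF.symm)
  have hr : ∀ y, r (φ' y) = φ (r y) := fun y => by
    rw [eq_pow_of_sq hF' hm φ' hsq', map_pow, eq_pow_of_sq hF hm φ hsq]
  set M'' := M'.transport r φ hr with hM''
  have hb'' : M''.b₀ = M.b₀ := by
    rw [hb]
    show r M'.b₀ = 1
    rw [hb', map_one]
  have hinj : Function.Injective fun y : F => y * φ y := by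
    intro a b e
    simp only at e
    have e2 : φ (a * φ a) = φ (b * φ b) := congrArg φ e
    rw [map_mul, map_mul, hsq, hsq] at e2
    by_cases ha : a = 0
    · subst ha
      simp only [map_zero, mul_zero, zero_mul] at e
      rcases mul_eq_zero.1 e.symm with h | h
      · exact h.symm
      · exact ((map_eq_zero φ).1 h).symm
    have hb0 : b ≠ 0 := fun hb0 => by
      subst hb0
      simp only [map_zero, mul_zero, mul_eq_zero, map_eq_zero, or_self] at e
      exact ha e
    have : a * (a * φ a) = b * (b * φ b) := by linear_combination e2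
    rw [e] at this
    exact mul_right_cancel₀ (mul_ne_zero hb0 (by simpa using hb0)) this
  exact ⟨L, j1, j2, m, hm, hL, (M.nonempty_equiv M'' S (M''.sys hinj (no_cube hF) hno)
    hb''.symm).map fun e => e.trans (CfsgLib.Suzuki.lieEquiv h)⟩

end CfsgLib.SzUnique
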