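import Cfsg.Agent.SzUnique.Field

/-!
The constant is in the prime field and the automorphism squares to the Frobenius map or to its inverse.
-/

set_option autoImplicit false
set_option linter.unusedSectionVars false

namespace CfsgLib.SzUnique

variable {F : Type*} [Field F] [CharP F 2]

/-- A polarised identity between products of automorphisms. -/
theorem eq_or_eq {θ ψ P Q : F →+* F} (hne : θ ≠ ψ)
    (h : ∀ x y : F, θ x * ψ y + θ y * ψ x = P x * Q y + P y * Q x) : θ = P ∨ θ = Q := by
  by_contra hcon
  push Not at hcon
  obtain ⟨hP, hQ⟩ := hcon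
  obtain ⟨d, hd⟩ : ∃ d, θ d ≠ Q d := not_forall.1 fun e => hQ (RingHom.ext e)
  obtain ⟨c, hc⟩ : ∃ c, θ c ≠ ψ c := not_forall.1 fun e => hne (RingHom.ext e)
  have h0 : ∀ x, θ x + ψ x = P x + Q x := fun x => by simpa using h x 1
  have h1 : ∀ k x, (θ k - ψ k) * θ x = (P k - ψ k) * P x + (Q k - ψ k) * Q x := fun k x => by
    have := h0 (k * x)
    simp only [map_mul] at this
    linear_combination this - ψ k * h0 x
  have h2 : ∀ x, (θ c - ψ c) * (θ d - Q d) * θ x = (P c - ψ c) * (P d - Q d) * P x := fun x => by
    have := h1 c (d * x)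
    simp only [map_mul] at this
    linear_combination this - Q d * h1 c x
  refine hP (RingHom.ext fun x => ?_)
  have hK : (θ c - ψ c) * (θ d - Q d) ≠ 0 :=
    mul_ne_zero (sub_ne_zero.2 hc) (sub_ne_zero.2 hd)
  have hone := h2 1
  rw [map_one, map_one, mul_one, mul_one] at hone
  have := h2 x
  rw [← hone] at this
  exact mul_left_cancel₀ hK this

/-- A multiplicative map commuting with the addition of one is additive. -/
theorem add_of_mul (g : F → F) (h0 : g 0 = 0) (hm : ∀ x y, g (x * y) = g x * g y)
    (h1 : ∀ x, g (x + 1) = g x + 1) (x y : F) : g (x + y) = g x + g y := by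
  by_cases hy : y = 0
  · subst hy; rw [add_zero, h0, add_zero]
  have : x + y = y * (x / y + 1) := by field_simp
  rw [this, hm, h1, mul_add, mul_one, ← hm, mul_div_cancel₀ _ hy]

variable [Finite F] {φ : F ≃+* F} {b₀ : F} {σ : F × F → F × F}

theorem frob_inj {x y : F} (h : x * x = y * y) : x = y := by
  refine eq_of_add (mul_self_eq_zero.1 ?_)
  linear_combination h + y * (x + y) * (CharTwo.two_eq_zero (R := F))

theorem Sys.root_zero (H : Sys φ b₀ σ) : H.root 0 = 0 := H.root_eq (by simp)

theorem Sys.root_sq (H : Sys φ b₀ σ) (x : F) : H.root (x * x) = H.root x * H.root x :=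
  H.root_mul x x

set_option maxRecDepth 8000 in
/-- The constant lies in the prime field. -/
theorem Sys.b₀_mem (H : Sys φ b₀ σ) (hbig : ∃ x : F, x ≠ 0 ∧ x ≠ 1) : b₀ = 0 ∨ b₀ = 1 := by
  by_contra hcon
  push Not at hcon
  obtain ⟨hb0, hb1⟩ := hcon
  obtain ⟨x, hx, hx1⟩ := hbig
  have hx' : x * x ≠ 0 := mul_ne_zero hx hx
  have hx1' : x * x ≠ 1 := fun e => hx1 (frob_inj (by rw [e, one_mul]))
  have k1 := H.key hx' hx1'
  have k2 := H.key hx hx1
  have hA2 : H.root (x * x) = H.root x * H.root x := H.root_sq x
  have hB2 : H.root (x * x + 1) = H.root (x + 1) * H.root (x + 1) := by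
    rw [← H.root_sq]
    congr 1
    linear_combination (-x) * (CharTwo.two_eq_zero (R := F))
  rw [hA2, hB2, map_mul] at k1
  have hsq := congrArg (fun z : F => z * z) k2
  simp only [mul_zero] at hsq
  have hf : H.root (x + 1) + φ (H.root x) * (x + 1) ≠ 0 := by
    intro e
    have h1 := H.root_spec (x + 1)
    have h2 := eq_of_add e
    have h3 : x + 1 ≠ 0 := fun h => hx1 (eq_of_add h)
    have h4 : φ (H.root x) * φ (H.root (x + 1)) = 1 := by
      refine mul_left_cancel₀ h3 ?_
      rw [mul_one]
      linear_combination h1 - φ (H.root (x + 1)) * h2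
    rw [← map_mul, map_eq_one_iff φ φ.injective] at h4
    exact H.root_mul_ne h4
  have hAa := H.root_spec x
  have hd := H.den_ne (x := x)
  set A := H.root x
  set a := φ A
  set B := H.root (x + 1)
  set E0 := B * x * a + (x + 1) * (x + 1) + B
  set E1 := x * A + (x + 1) * B + 1 with hE1
  set u := (1 + A * B) * E0 with hu
  set v := (B + a * (x + 1)) * E1 with hv
  have hzero : (b₀ + b₀ * b₀) * (u * u + v * v) = 0 := by
    have key : ∀ b u v X Y : F, X = u * u → Y = v * v → (1 + b) * X + b * Y = 0 →
        ((1 + b) * u + b * v) * ((1 + b) * u + b * v) = 0 → (b + b * b) * (u * u + v * v) = 0 := by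
      intro b u v X Y hX hY h1 h2
      rw [hX, hY] at h1
      linear_combination (norm := (ring_nf; reduce_mod_char!)) h1 + h2
    refine key b₀ u v _ _ ?_ ?_ k1 hsq
    · have e : (x * x + 1) * (x * x + 1) = (x + 1) * (x + 1) * ((x + 1) * (x + 1)) := by
        linear_combination (norm := (ring_nf; reduce_mod_char!))
      rw [hu, e]
      simp only [E0]
      linear_combination (norm := (ring_nf; reduce_mod_char!))
    · rw [hv]
      simp only [E1]
      linear_combination (norm := (ring_nf; reduce_mod_char!))
  have hbb : b₀ + b₀ * b₀ ≠ 0 := by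
    intro e
    have : b₀ * (1 + b₀) = 0 := by linear_combination e
    rcases mul_eq_zero.1 this with h | h
    · exact hb0 h
    · exact hb1 (eq_of_add h).symm
  have huv : u = v := frob_inj (eq_of_add ((mul_eq_zero.1 hzero).resolve_left hbb))
  have hu0 : u = 0 := by
    linear_combination (norm := (ring_nf; reduce_mod_char!)) k2 + b₀ * huv
  have hv0 : v = 0 := huv ▸ hu0
  have hE0' : E0 = 0 := (mul_eq_zero.1 hu0).resolve_left hd
  have hE1' : E1 = 0 := (mul_eq_zero.1 hv0).resolve_left hf
  have h6 : x * ((A + 1) * (a + 1)) = 0 := by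
    simp only [E0, E1] at hE0' hE1'
    linear_combination (norm := (ring_nf; reduce_mod_char!))
      (x + 1) * hE0' + (x * a + 1) * hE1' + (x * x + x) * hAa
  rcases mul_eq_zero.1 ((mul_eq_zero.1 h6).resolve_left hx) with h | h
  · have hA1 : A = 1 := eq_of_add h
    exact hx1 (by rw [← hAa]; simp only [a, hA1, map_one, mul_one])
  · have hA1 : A = 1 := φ.injective ((eq_of_add h).trans (map_one φ).symm)
    exact hx1 (by rw [← hAa]; simp only [a, hA1, map_one, mul_one])

/-- The automorphism squares to the Frobenius map or to its inverse. -/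
theorem Sys.cases (H : Sys φ b₀ σ) (hbig : ∃ x : F, x ≠ 0 ∧ x ≠ 1) (hφ : ∃ x, φ x ≠ x) :
    (b₀ = 1 ∧ ∀ x, φ (φ x) = x * x) ∨ (b₀ = 0 ∧ ∀ x, φ (φ x) * φ (φ x) = x) := by
  have two : (2 : F) = 0 := CharTwo.two_eq_zero
  have hone : (1 : F) + 1 = 0 := add_self 1
  let φr : F →+* F := φ
  rcases H.b₀_mem hbig with hb | hb
  · right
    refine ⟨hb, ?_⟩
    subst hb
    let g : F → F := fun x => x * φ (H.root x)
    have hg1 : ∀ x, g (x + 1) = g x + 1 := by
      intro x
      show (x + 1) * φ (H.root (x + 1)) = x * φ (H.root x) + 1
      by_cases hx : x = 0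
      · simp [hx, H.root_one]
      by_cases hx1 : x = 1
      · simp [hx1, H.root_one, hone]
      have hk := H.key hx hx1
      rw [add_zero, one_mul, zero_mul, add_zero] at hk
      have hE := (mul_eq_zero.1 hk).resolve_left H.den_ne
      have hx' : x + 1 ≠ 0 := fun h => hx1 (eq_of_add h)
      refine mul_left_cancel₀ (H.root_ne hx') ?_
      linear_combination (norm := (ring_nf; reduce_mod_char!))
        (x + 1) * H.root_spec (x + 1) + hE
    have hgm : ∀ x y, g (x * y) = g x * g y := fun x y => by
      simp only [g, H.root_mul, map_mul]; ring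
    let η : F →+* F :=
      { toFun := g
        map_one' := by simp [g, H.root_one]
        map_mul' := hgm
        map_zero' := by simp [g]
        map_add' := add_of_mul g (by simp [g]) hgm hg1 }
    have hη : ∀ x, η x * η (φ x) = x * (φ x * φ x) := fun x => by
      rw [← map_mul]
      show x * φ x * φ (H.root (x * φ x)) = _
      rw [H.root_eq (show x * φ x = x * φ x from rfl)]
      ring
    let sq : F →+* F := frobenius F 2
    have hpol : ∀ x y, η x * η.comp φr y + η y * η.comp φr x =
        RingHom.id F x * (sq.comp φr) y + RingHom.id F y * (sq.comp φr) x := by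
      intro x y
      have e1 := hη (x + y)
      simp only [map_add] at e1
      have hsq : ∀ z : F, sq z = z * z := fun z => by simp [sq, frobenius_def]; ring
      simp only [RingHom.comp_apply, RingHom.id_apply, φr, RingEquiv.coe_toRingHom, hsq]
      linear_combination (norm := (ring_nf; reduce_mod_char!)) e1 - hη x - hη y
    have hne : η ≠ η.comp φr := by
      intro e
      obtain ⟨x, hx⟩ := hφ
      exact hx (RingHom.injective η (RingHom.congr_fun e x).symm)
    intro x
    rcases eq_or_eq hne hpol with h | h
    · exfalso
      obtain ⟨z, hz, hz1⟩ := hbig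
      have := hη (φ.symm z)
      rw [h] at this
      simp only [RingHom.id_apply, RingEquiv.apply_symm_apply] at this
      have hs : φ.symm z ≠ 0 := by simpa using hz
      have := mul_left_cancel₀ hs this
      exact hz1 (mul_left_cancel₀ hz (by rw [mul_one]; exact this.symm))
    · by_cases hx : x = 0
      · simp [hx]
      have := hη x
      rw [h] at this
      simp only [RingHom.comp_apply, φr, RingEquiv.coe_toRingHom, sq, frobenius_def, pow_two] at this
      rw [mul_comm x] at this
      exact mul_left_cancel₀ (mul_ne_zero (by simpa using hx) (by simpa using hx)) this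
  · left
    refine ⟨hb, ?_⟩
    subst hb
    let g : F → F := fun x => x * H.root x
    have hg1 : ∀ x, g (x + 1) = g x + 1 := by
      intro x
      show (x + 1) * H.root (x + 1) = x * H.root x + 1
      by_cases hx : x = 0
      · simp [hx, H.root_one]
      by_cases hx1 : x = 1
      · simp [hx1, H.root_one, hone]
      have hk := H.key hx hx1
      rw [hone, zero_mul, zero_add, one_mul] at hk
      have hf : H.root (x + 1) + φ (H.root x) * (x + 1) ≠ 0 := by
        intro e
        have h3 : x + 1 ≠ 0 := fun h => hx1 (eq_of_add h)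
        have h4 : φ (H.root x) * φ (H.root (x + 1)) = 1 := by
          refine mul_left_cancel₀ h3 ?_
          rw [mul_one]
          linear_combination H.root_spec (x + 1) - φ (H.root (x + 1)) * eq_of_add e
        rw [← map_mul, map_eq_one_iff φ φ.injective] at h4
        exact H.root_mul_ne h4
      have hE := (mul_eq_zero.1 hk).resolve_left hf
      linear_combination (norm := (ring_nf; reduce_mod_char!)) hE
    have hgm : ∀ x y, g (x * y) = g x * g y := fun x y => by
      simp only [g, H.root_mul]; ring
    let η : F →+* F :=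
      { toFun := g
        map_one' := by simp [g, H.root_one]
        map_mul' := hgm
        map_zero' := by simp [g]
        map_add' := add_of_mul g (by simp [g]) hgm hg1 }
    have hη : ∀ x, η x * η (φ x) = (x * x) * φ x := fun x => by
      rw [← map_mul]
      show x * φ x * H.root (x * φ x) = _
      rw [H.root_eq (show x * φ x = x * φ x from rfl)]
      ring
    let sq : F →+* F := frobenius F 2
    have hsq : ∀ z : F, sq z = z * z := fun z => by simp [sq, frobenius_def]; ring
    have hpol : ∀ x y, η x * η.comp φr y + η y * η.comp φr x =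
        sq x * φr y + sq y * φr x := by
      intro x y
      have e1 := hη (x + y)
      simp only [map_add] at e1
      simp only [RingHom.comp_apply, φr, RingEquiv.coe_toRingHom, hsq]
      linear_combination (norm := (ring_nf; reduce_mod_char!)) e1 - hη x - hη y
    have hne : η ≠ η.comp φr := by
      intro e
      obtain ⟨x, hx⟩ := hφ
      exact hx (RingHom.injective η (RingHom.congr_fun e x).symm)
    intro x
    rcases eq_or_eq hne hpol with h | h
    · exfalso
      obtain ⟨z, hz, hz1⟩ := hbig
      have := hη (φ.symm z)
      simp only [h, hsq, RingEquiv.apply_symm_apply] at this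
      have hs : φ.symm z ≠ 0 := by simpa using hz
      have := mul_left_cancel₀ (mul_ne_zero hs hs) this
      exact hz1 (mul_left_cancel₀ hz (by rw [mul_one]; exact this))
    · by_cases hx : x = 0
      · simp [hx]
      have := hη x
      simp only [h, φr, RingEquiv.coe_toRingHom] at this
      rw [mul_comm (x * x)] at this
      exact mul_left_cancel₀ (by simpa using hx) this

end CfsgLib.SzUnique
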