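import Cfsg.Agent.SzUnique.Auto

/-!
A permutation group with kernel in coordinates of type A gives the system of the involution, and two
such groups with the same data are isomorphic.
-/

set_option autoImplicit false
set_option linter.unusedSectionVars false
set_option linter.style.haveILetI false

namespace CfsgLib.SzUnique

open MulAction

/-- A doubly transitive group with kernel in coordinates. -/
structure Model (G Ω : Type*) [Group G] [MulAction G Ω] (F : Type*) [Field F] (φ : F ≃+* F) where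
  /-- The first point. -/
  a : Ω
  /-- The second point. -/
  b : Ω
  /-- The involution. -/
  t : G
  /-- The kernel. -/
  U : Subgroup G
  /-- The coordinates. -/
  Φ : U ≃ F × F
  /-- The fixed element. -/
  u₀ : U
  hab : a ≠ b
  faithful : FaithfulSMul G Ω
  le : U ≤ stabilizer G a
  reg_inj : ∀ u v : U, (u : G) • b = (v : G) • b → u = v
  reg_surj : ∀ c : Ω, c ≠ a → ∃ u : U, (u : G) • b = c
  mul : ∀ p q : U, Φ (p * q) = pm φ (Φ p) (Φ q)
  tt : t * t = 1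
  ta : t • a = b
  fixed : t • ((u₀ : G) • b) = (u₀ : G) • b
  first : (Φ u₀).1 = 1
  invert : ∀ k ∈ stabilizer G a ⊓ stabilizer G b, t * k * t = k⁻¹
  odd : ∀ k ∈ stabilizer G a ⊓ stabilizer G b, k * k = 1 → k = 1
  scalar : ∀ k ∈ stabilizer G a ⊓ stabilizer G b, ∃ l : F, l ≠ 0 ∧
    ∀ u : U, ∃ h : k * u * k⁻¹ ∈ U, Φ ⟨_, h⟩ = sc φ l (Φ u)
  scalar_surj : ∀ l : F, l ≠ 0 → ∃ k ∈ stabilizer G a ⊓ stabilizer G b,
    ∀ u : U, ∃ h : k * u * k⁻¹ ∈ U, Φ ⟨_, h⟩ = sc φ l (Φ u)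

variable {G Ω : Type*} [Group G] [MulAction G Ω] {F : Type*} [Field F] [CharP F 2] {φ : F ≃+* F}
variable (M : Model G Ω F φ)

theorem twist {H : Type*} [Group H] {T h : H} (hT : T * T = 1) (hinv : T * h * T = h⁻¹) :
    T * h⁻¹ = h * T ∧ h⁻¹ * T * h⁻¹ = T := by
  have hTi : T⁻¹ = T := inv_eq_of_mul_eq_one_right hT
  have h1 : T * h⁻¹ = h * T := by
    rw [← hinv, ← mul_assoc, ← mul_assoc, hT, one_mul]
  refine ⟨h1, ?_⟩
  rw [mul_assoc, h1, inv_mul_cancel_left]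

theorem decomp_image {H : Type*} [Group H] {T u f g h : H} (hT : T * T = 1)
    (hinv : T * h * T = h⁻¹) (e : T * u * T = f * h * T * g) :
    T * f * T = u * h⁻¹ * T * (h⁻¹ * g⁻¹ * h⁻¹⁻¹) := by
  obtain ⟨h1, h2⟩ := twist hT hinv
  have hTi : T⁻¹ = T := inv_eq_of_mul_eq_one_right hT
  have hf : f = T * u * T * g⁻¹ * T * h⁻¹ := by
    rw [e]
    simp only [mul_assoc, mul_inv_cancel_left]
    rw [← mul_assoc T T, hT, one_mul, mul_inv_cancel, mul_one]
  calc T * f * T = T * (T * u * T * g⁻¹ * T * h⁻¹) * T := by rw [← hf]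
    _ = u * T * g⁻¹ * (T * h⁻¹ * T) := by
      simp only [← mul_assoc]; rw [hT, one_mul]
    _ = u * T * g⁻¹ * h := by rw [h1, mul_assoc h T T, hT, mul_one]
    _ = u * (h⁻¹ * T * h⁻¹) * g⁻¹ * h := by rw [h2]
    _ = _ := by group

theorem decomp_inverse {H : Type*} [Group H] {T u f g h : H} (hT : T * T = 1)
    (hinv : T * h * T = h⁻¹) (e : T * u * T = f * h * T * g) :
    T * u⁻¹ * T = g⁻¹ * h * T * f⁻¹ := by
  have hTi : T⁻¹ = T := inv_eq_of_mul_eq_one_right hT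
  have := congrArg (fun z : H => z⁻¹) e
  simp only [mul_inv_rev, hTi, ← mul_assoc] at this
  rw [this, mul_assoc g⁻¹ T h⁻¹, (twist hT hinv).1, ← mul_assoc]


/-- The constant. -/
def Model.b₀ : F := (M.Φ M.u₀).2

theorem Model.Φ_u₀ : M.Φ M.u₀ = (1, M.b₀) := Prod.ext M.first rfl

theorem Model.Φ_one : M.Φ 1 = 0 := by
  have h := M.mul 1 1
  rw [mul_one] at h
  have h1 := congrArg Prod.fst h
  simp only [pm, add_self] at h1
  have h2 := congrArg Prod.snd h
  simp only [pm, add_self, h1, mul_zero, zero_add] at h2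
  exact Prod.ext h1 h2

theorem Model.Φ_eq_zero {u : M.U} : M.Φ u = 0 ↔ u = 1 :=
  ⟨fun h => M.Φ.injective (h.trans M.Φ_one.symm), fun h => by rw [h, M.Φ_one]⟩

theorem Model.Φ_inv (u : M.U) : M.Φ u⁻¹ = pv φ (M.Φ u) := by
  have h := M.mul u u⁻¹
  rw [mul_inv_cancel, M.Φ_one] at h
  have h1 := congrArg Prod.fst h
  have h2 := congrArg Prod.snd h
  simp only [pm, Prod.fst_zero, Prod.snd_zero] at h1 h2
  have e1 : (M.Φ u⁻¹).1 = (M.Φ u).1 := (eq_of_add h1.symm).symm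
  rw [e1] at h2
  refine Prod.ext e1 ?_
  show _ = (M.Φ u).2 + φ (M.Φ u).1 * (M.Φ u).1
  linear_combination (norm := (ring_nf; reduce_mod_char!)) -h2

/-- The kernel element with given coordinates. -/
def Model.el (p : F × F) : M.U := M.Φ.symm p

theorem Model.Φ_el (p : F × F) : M.Φ (M.el p) = p := M.Φ.apply_symm_apply p

theorem Model.el_Φ (u : M.U) : M.el (M.Φ u) = u := M.Φ.symm_apply_apply u

theorem Model.el_mul (p q : F × F) : M.el p * M.el q = M.el (pm φ p q) :=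
  M.Φ.injective (by rw [M.mul, M.Φ_el, M.Φ_el, M.Φ_el])

theorem Model.el_zero : M.el 0 = 1 := M.Φ.injective (by rw [M.Φ_el, M.Φ_one])

/-- The point with given coordinates. -/
def Model.pt (p : F × F) : Ω := (M.el p : G) • M.b

theorem Model.pt_zero : M.pt 0 = M.b := by rw [Model.pt, M.el_zero, OneMemClass.coe_one, one_smul]

theorem Model.pt_inj {p q : F × F} (h : M.pt p = M.pt q) : p = q :=
  M.Φ.symm.injective (M.reg_inj _ _ h)

theorem Model.pt_ne (p : F × F) : M.pt p ≠ M.a := fun h => M.hab (by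
  have h1 : ((M.el p : G))⁻¹ • M.a = M.a := inv_smul_eq_iff.2 (M.le (M.el p).2).symm
  rw [Model.pt] at h
  rw [← inv_smul_smul (M.el p : G) M.b, h, h1])

theorem Model.pt_surj {c : Ω} (h : c ≠ M.a) : ∃ p, M.pt p = c := by
  obtain ⟨u, hu⟩ := M.reg_surj c h
  exact ⟨M.Φ u, by rw [Model.pt, M.el_Φ, hu]⟩

theorem Model.u_pt (u : M.U) (p : F × F) : (u : G) • M.pt p = M.pt (pm φ (M.Φ u) p) := by
  rw [Model.pt, Model.pt, ← mul_smul, ← Subgroup.coe_mul, ← M.el_mul, M.el_Φ]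

theorem Model.tb : M.t • M.b = M.a := by rw [← M.ta, ← mul_smul, M.tt, one_smul]

theorem Model.t_inv : M.t⁻¹ = M.t := inv_eq_of_mul_eq_one_right M.tt

theorem Model.exists_image (p : F × F) : ∃ q : F × F, p ≠ 0 → M.t • M.pt p = M.pt q := by
  by_cases hp : p = 0
  · exact ⟨0, fun h => absurd hp h⟩
  obtain ⟨q, hq⟩ := M.pt_surj (c := M.t • M.pt p) fun h => hp (M.pt_inj (by
    rw [M.pt_zero]
    rw [← M.tb] at h
    exact smul_left_cancel _ h))
  exact ⟨q, fun _ => hq.symm⟩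

/-- The map of the involution. -/
noncomputable def Model.σ (p : F × F) : F × F := (M.exists_image p).choose

theorem Model.σ_spec {p : F × F} (hp : p ≠ 0) : M.t • M.pt p = M.pt (M.σ p) :=
  (M.exists_image p).choose_spec hp

theorem Model.σ_ne {p : F × F} (hp : p ≠ 0) : M.σ p ≠ 0 := fun h => by
  have := M.σ_spec hp
  rw [h, M.pt_zero] at this
  rw [← M.ta] at this
  exact M.pt_ne p (smul_left_cancel _ this)

theorem Model.σ_σ {p : F × F} (hp : p ≠ 0) : M.σ (M.σ p) = p :=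
  M.pt_inj (by rw [← M.σ_spec (M.σ_ne hp), ← M.σ_spec hp, ← mul_smul, M.tt, one_smul])

/-- The pair stabiliser. -/
abbrev Model.K : Subgroup G := stabilizer G M.a ⊓ stabilizer G M.b

theorem Model.k_pt {k : G} (hk : k ∈ M.K) {l : F}
    (hl : ∀ u : M.U, ∃ h : k * u * k⁻¹ ∈ M.U, M.Φ ⟨_, h⟩ = sc φ l (M.Φ u)) (p : F × F) :
    k • M.pt p = M.pt (sc φ l p) := by
  obtain ⟨h, e⟩ := hl (M.el p)
  rw [M.Φ_el] at e
  have : M.el (sc φ l p) = ⟨_, h⟩ := by rw [← e, M.el_Φ]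
  conv_rhs => rw [Model.pt, this]
  show _ = (k * (M.el p : G) * k⁻¹) • M.b
  rw [mul_smul, inv_smul_eq_iff.2 (hk.2 : k • M.b = M.b).symm, mul_smul]
  rfl

theorem Model.σ_scale {l : F} (hl : l ≠ 0) {p : F × F} (hp : p ≠ 0) :
    M.σ (sc φ l p) = sc φ l⁻¹ (M.σ p) := by
  obtain ⟨k, hk, hkl⟩ := M.scalar_surj l hl
  have hne : sc φ l p ≠ 0 := by
    intro h
    apply hp
    have h1 : l * p.1 = 0 := congrArg Prod.fst h
    have h2 : l * φ l * p.2 = 0 := congrArg Prod.snd h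
    exact Prod.ext ((mul_eq_zero.1 h1).resolve_left hl)
      ((mul_eq_zero.1 h2).resolve_left (mul_ne_zero hl (by simpa using hl)))
  have h1 : k⁻¹ • M.pt (M.σ p) = M.pt (sc φ l⁻¹ (M.σ p)) := by
    rw [inv_smul_eq_iff, M.k_pt hk hkl, sc_sc, mul_inv_cancel₀ hl, sc_one]
  refine M.pt_inj ?_
  rw [← M.σ_spec hne, ← h1, ← M.k_pt hk hkl, ← M.invert k hk, mul_smul, mul_smul,
    ← M.σ_spec hp, ← mul_smul M.t M.t, M.tt, one_smul]

/-- The decomposition of the conjugate of a kernel element. -/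
theorem Model.exists_rel {p : F × F} (hp : p ≠ 0) : ∃ h ∈ M.K,
    M.t * (M.el p : G) * M.t =
      (M.el (M.σ p) : G) * h * M.t * (M.el (pv φ (M.σ (pv φ p))) : G) := by
  have hp' : pv φ p ≠ 0 := fun h => hp (by
    have h1 : p.1 = 0 := congrArg Prod.fst h
    have h2 : p.2 + φ p.1 * p.1 = 0 := congrArg Prod.snd h
    rw [h1, mul_zero, add_zero] at h2
    exact Prod.ext h1 h2)
  set v := M.el (M.σ (pv φ p)) with hv
  have hg : M.el (pv φ (M.σ (pv φ p))) = v⁻¹ :=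
    M.Φ.injective (by rw [M.Φ_el, M.Φ_inv, hv, M.Φ_el])
  rw [hg]
  refine ⟨(M.el (M.σ p) : G)⁻¹ * M.t * (M.el p : G) * M.t * (v : G) * M.t, ⟨?_, ?_⟩, ?_⟩
  · show _ • M.a = M.a
    simp only [mul_smul]
    rw [M.ta]
    show (M.el (M.σ p) : G)⁻¹ • M.t • (M.el p : G) • M.t • M.pt (M.σ (pv φ p)) = M.a
    rw [← M.σ_spec hp', ← mul_smul M.t M.t, M.tt, one_smul, M.u_pt, M.Φ_el]
    have : pm φ p (pv φ p) = 0 := by
      rw [← M.Φ_el p, ← M.Φ_inv, ← M.mul, mul_inv_cancel, M.Φ_one]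
    rw [this, M.pt_zero, M.tb]
    exact inv_smul_eq_iff.2 (M.le (M.el (M.σ p)).2).symm
  · show _ • M.b = M.b
    simp only [mul_smul]
    rw [M.tb, show (v : G) • M.a = M.a from M.le v.2, M.ta]
    show (M.el (M.σ p) : G)⁻¹ • M.t • M.pt p = M.b
    rw [M.σ_spec hp, Model.pt, inv_smul_smul]
  · rw [Subgroup.coe_inv]
    simp only [mul_assoc]
    rw [mul_inv_cancel_left, ← mul_assoc M.t M.t (v : G)⁻¹, M.tt, one_mul, mul_inv_cancel, mul_one]

theorem Model.rel_unique {u u' g g' : M.U} {h h' : G} (hh : h ∈ M.K) (hh' : h' ∈ M.K)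
    (e : (u : G) * h * M.t * g = u' * h' * M.t * g') : u = u' ∧ h = h' ∧ g = g' := by
  have hg : g = g' := by
    have h1 : ((u : G) * h * M.t * g) • ((g⁻¹ : M.U) : G) • M.b = M.a := by
      rw [← mul_smul, mul_assoc, ← Subgroup.coe_mul, mul_inv_cancel, OneMemClass.coe_one, mul_one,
        mul_smul, mul_smul, M.tb, hh.1, M.le u.2]
    rw [e, ← mul_smul, mul_assoc, ← Subgroup.coe_mul] at h1
    simp only [mul_smul] at h1
    have h2 : ((g' * g⁻¹ : M.U) : G) • M.b = M.b := by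
      have h3 : (u' : G) • h' • M.t • ((g' * g⁻¹ : M.U) : G) • M.b = (u' : G) • h' • M.t • M.b := by
        rw [h1, M.tb, hh'.1, M.le u'.2]
      exact smul_left_cancel _ (smul_left_cancel _ (smul_left_cancel _ h3))
    have h4 : g' * g⁻¹ = 1 := M.reg_inj _ _ (by rw [h2, OneMemClass.coe_one, one_smul])
    exact (mul_inv_eq_one.1 h4).symm
  subst hg
  have e' := mul_right_cancel (mul_right_cancel e)
  have hu : u = u' := M.reg_inj _ _ (by
    have := congrArg (fun z : G => z • M.b) e'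
    simp only [mul_smul] at this
    rwa [hh.2, hh'.2] at this)
  subst hu
  exact ⟨rfl, mul_left_cancel e', rfl⟩

theorem Model.el_inv (p : F × F) : (M.el p)⁻¹ = M.el (pv φ p) :=
  M.Φ.injective (by rw [M.Φ_inv, M.Φ_el, M.Φ_el])

theorem pv_pv (φ : F ≃+* F) (p : F × F) : pv φ (pv φ p) = p := by
  ext
  · rfl
  · simp only [pv]
    rw [add_assoc, add_self, add_zero]

theorem pv_sc (φ : F ≃+* F) (l : F) (p : F × F) : pv φ (sc φ l p) = sc φ l (pv φ p) := by
  ext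
  · rfl
  · simp only [pv, sc, map_mul]
    ring

theorem Model.exists_rel_inv {p : F × F} (hp : p ≠ 0) {h : G} (hh : h ∈ M.K)
    (e : M.t * (M.el p : G) * M.t =
      (M.el (M.σ p) : G) * h * M.t * (M.el (pv φ (M.σ (pv φ p))) : G)) :
    ∀ l : F, (∀ u : M.U, ∃ hu : h⁻¹ * u * h⁻¹⁻¹ ∈ M.U, M.Φ ⟨_, hu⟩ = sc φ l (M.Φ u)) →
      pv φ (M.σ (pv φ (M.σ p))) = sc φ l (M.σ (pv φ p)) := by
  intro l hl
  set su := M.el (M.σ p)
  set g := M.el (pv φ (M.σ (pv φ p))) with hg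
  have hσ := M.σ_ne hp
  obtain ⟨h', hh', e'⟩ := M.exists_rel hσ
  rw [M.σ_σ hp] at e'
  obtain ⟨hu, eu⟩ := hl g⁻¹
  have key : M.t * (su : G) * M.t =
      (M.el p : G) * h⁻¹ * M.t * (⟨_, hu⟩ : M.U) := decomp_image M.tt (M.invert h hh) e
  obtain ⟨-, -, e3⟩ := M.rel_unique (inv_mem hh) hh' (key.symm.trans e')
  have e4 := congrArg M.Φ e3
  rw [eu, M.Φ_inv, hg, M.Φ_el, pv_pv, M.Φ_el] at e4
  exact e4.symm

theorem Model.rel_inv_eq {p : F × F} (hp : pv φ p ≠ 0) {h : G} (hh : h ∈ M.K)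
    (e : M.t * (M.el p : G) * M.t =
      (M.el (M.σ p) : G) * h * M.t * (M.el (pv φ (M.σ (pv φ p))) : G)) :
    M.t * (M.el (pv φ p) : G) * M.t =
      (M.el (M.σ (pv φ p)) : G) * h * M.t * (M.el (pv φ (M.σ (pv φ (pv φ p)))) : G) := by
  rw [pv_pv, ← M.el_inv p, ← M.el_inv (M.σ p), Subgroup.coe_inv, Subgroup.coe_inv]
  have h1 := decomp_inverse M.tt (M.invert h hh) e
  rw [← M.el_inv (M.σ (pv φ p)), Subgroup.coe_inv, inv_inv] at h1
  exact h1

theorem Model.sys [Finite F] (hinj : Function.Injective fun x : F => x * φ x)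
    (h3 : ∀ x : F, x * x + x + 1 ≠ 0)
    (hno : ∀ w : G, w * w * w = 1 → w = 1) : Sys φ M.b₀ M.σ := by
  have one_ne : ((1, M.b₀) : F × F) ≠ 0 := fst_ne one_ne_zero
  have hel0 : M.el (1, M.b₀) = M.u₀ := by rw [← M.Φ_u₀, M.el_Φ]
  have hfix : M.σ (1, M.b₀) = (1, M.b₀) := M.pt_inj (by
    rw [← M.σ_spec one_ne, Model.pt, hel0]; exact M.fixed)
  -- the decomposition at the fixed element
  obtain ⟨h, hh, e⟩ := M.exists_rel one_ne
  obtain ⟨l, hl0, hl⟩ := M.scalar h⁻¹ (inv_mem hh)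
  have hg := M.exists_rel_inv one_ne hh e l hl
  rw [hfix] at hg e
  have hh1 : h = 1 := by
    refine M.odd h hh ?_
    obtain ⟨hu, -⟩ := hl (M.el (pv φ (M.σ (pv φ (1, M.b₀)))))⁻¹
    have key : M.t * (M.el (1, M.b₀) : G) * M.t =
        (M.el (1, M.b₀) : G) * h⁻¹ * M.t * (⟨_, hu⟩ : M.U) := decomp_image M.tt (M.invert h hh) e
    obtain ⟨-, hh', -⟩ := M.rel_unique hh (inv_mem hh) (e.symm.trans key)
    nth_rw 2 [hh']
    exact mul_inv_cancel h
  subst hh1
  set g := pv φ (M.σ (pv φ (1, M.b₀))) with hgdef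
  -- the second factor is an involution
  have hg2 : g = M.σ (pv φ (1, M.b₀)) := by
    have h1 := hl M.u₀
    obtain ⟨hu, eu⟩ := h1
    have hval : (⟨_, hu⟩ : M.U) = M.u₀ := Subtype.ext (by simp)
    rw [hval, M.Φ_u₀] at eu
    have hl1 : l = 1 := by
      have := congrArg Prod.fst eu
      simpa [sc] using this.symm
    rw [hl1, sc_one] at hg
    exact hg
  have hpvne : pv φ (1, M.b₀) ≠ 0 := fst_ne one_ne_zero
  have hg1 : g.1 = 0 := by
    have := congrArg Prod.snd hg2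
    rw [hgdef] at this
    simp only [pv] at this
    rw [add_eq_left] at this
    rcases mul_eq_zero.1 this with h' | h'
    · exact (map_eq_zero φ).1 h'
    · exact h'
  have hgne : g ≠ 0 := hg2 ▸ M.σ_ne hpvne
  have hgc : g = ((0 : F), g.2) := Prod.ext hg1 rfl
  have hc : g.2 ≠ 0 := fun h' => hgne (by rw [hgc, h']; rfl)
  rw [mul_one] at e
  -- the relation on points
  have hrel : ∀ v : F × F, v ≠ 0 → pm φ (1, M.b₀) v ≠ 0 →
      M.σ (pm φ (1, M.b₀) v) = pm φ (1, M.b₀) (M.σ (pm φ g (M.σ v))) := by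
    intro v hv hv'
    have e2 := congrArg (fun z : G => z • M.pt (M.σ v)) e
    simp only [mul_smul] at e2
    rw [M.σ_spec (M.σ_ne hv), M.σ_σ hv, M.u_pt, M.u_pt, M.Φ_el, M.Φ_el, M.σ_spec hv'] at e2
    have hne : pm φ g (M.σ v) ≠ 0 := by
      intro h0
      rw [h0, M.pt_zero, M.tb, M.le (M.el (1, M.b₀)).2] at e2
      exact M.pt_ne _ e2
    rw [M.σ_spec hne, M.u_pt, M.Φ_el] at e2
    exact M.pt_inj e2
  -- the second factor is the square
  have hcen : M.σ (0, 1) = pv φ (1, M.b₀) ∧ g = (0, 1) := by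
    obtain ⟨C, hC⟩ := (Finite.injective_iff_surjective.1 hinj) g.2
    simp only at hC
    have hC0 : C ≠ 0 := fun h' => hc (by rw [← hC, h', zero_mul])
    have e01 : g = sc φ C (0, 1) := by rw [hgc]; simp [sc, hC]
    have h1 : M.σ g = pv φ (1, M.b₀) := by rw [hg2, M.σ_σ hpvne]
    have h2 : M.σ (0, 1) = sc φ C (pv φ (1, M.b₀)) := by
      have h' : ((0 : F), (1 : F)) = sc φ C⁻¹ g := by
        rw [e01, sc_sc, inv_mul_cancel₀ hC0, sc_one]
      rw [h', M.σ_scale (inv_ne_zero hC0) hgne, inv_inv, h1]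
    have h5 : pm φ (1, M.b₀) (0, 1) = pv φ (1, M.b₀) := by simp [pm, pv]
    have h6 := hrel (0, 1) (snd_ne one_ne_zero) (by rw [h5]; exact hpvne)
    rw [h5, ← hg2, h2] at h6
    have h7 : pm φ g (sc φ C (pv φ (1, M.b₀))) = sc φ C (1, M.b₀) := by
      rw [hgc, ← hC]
      ext
      · simp [pm, sc, pv]
      · simp [pm, sc, pv]
        linear_combination (norm := (ring_nf; reduce_mod_char!))
    rw [h7, M.σ_scale hC0 one_ne, hfix] at h6
    have h8 := congrArg Prod.fst h6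
    simp only [pm, sc, hg1, mul_one] at h8
    have hC1 : C = 1 := by
      have := eq_of_add h8.symm
      rw [eq_comm, inv_eq_one] at this
      exact this
    rw [hC1, sc_one] at h2
    exact ⟨h2, by rw [e01, hC1, sc_one]⟩
  obtain ⟨hcentre, hg01⟩ := hcen
  refine
    { inj := hinj
      no_cube := h3
      ne := fun p hp => M.σ_ne hp
      inv := fun p hp => M.σ_σ hp
      scale := fun l hl p hp => M.σ_scale hl hp
      fixed := hfix
      centre := hcentre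
      rel := fun v hv hv' => by rw [← hg01]; exact hrel v hv hv'
      braid := fun p hp => ?_ }
  have hp' : pv φ p ≠ 0 := fun h' => hp (by
    have h1 : p.1 = 0 := congrArg Prod.fst h'
    have h2 : p.2 + φ p.1 * p.1 = 0 := congrArg Prod.snd h'
    rw [h1, mul_zero, add_zero] at h2
    exact Prod.ext h1 h2)
  obtain ⟨k, hk, ek⟩ := M.exists_rel hp
  obtain ⟨m, hm0, hm⟩ := M.scalar k⁻¹ (inv_mem hk)
  have b1 := M.exists_rel_inv hp hk ek m hm
  have b2 := M.exists_rel_inv hp' hk (M.rel_inv_eq hp' hk ek) m hm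
  rw [pv_pv] at b2
  refine ⟨m, ?_, ?_⟩
  · rw [← pv_sc, ← b1, pv_pv]
  · rw [← pv_sc, ← b2, pv_pv]

end CfsgLib.SzUnique
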